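import Groth.Agent.InvQ.K702.Place
import Mathlib.RingTheory.Ideal.MinimalPrime.Localization

/-!
Points in the closure of the image are reached by valuation rings with residue field `k`.
-/

set_option autoImplicit false
universe u v x

namespace K702.Place

open IsLocalRing

theorem exists_valuation_point {k : Type u} [Field k] [IsAlgClosed k] {S A : Type u} [CommRing S] [Algebra k S]
    [CommRing A] [Algebra k A] (φ : S →ₐ[k] A) (z : S →ₐ[k] k) (hz : RingHom.ker φ ≤ RingHom.ker z) :
    ∃ (R : Type u) (_ : CommRing R) (_ : IsDomain R) (_ : ValuationRing R) (_ : Algebra k R)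
      (res : R →ₐ[k] k) (Ξ : A →ₐ[k] FractionRing R) (h : S →ₐ[k] R),
      RingHom.ker res = IsLocalRing.maximalIdeal R ∧
        (IsScalarTower.toAlgHom k R (FractionRing R)).comp h = Ξ.comp φ ∧ res.comp h = z := by
  classical
  -- a minimal prime of the image below `z`
  have hmz : (RingHom.ker z).IsPrime := RingHom.ker_isPrime z
  obtain ⟨P, hP, hPz⟩ := Ideal.exists_minimalPrimes_le hz
  have hPp : P.IsPrime := hP.1.1
  have hP' : P ∈ ((⊥ : Ideal A).comap φ.toRingHom).minimalPrimes := by
    have : (⊥ : Ideal A).comap φ.toRingHom = RingHom.ker φ := rfl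
    rwa [this]
  obtain ⟨Q, hQp, _, hQP⟩ := Ideal.exists_comap_eq_of_mem_minimalPrimes φ.toRingHom P hP'
  have := hQp
  let K := FractionRing (A ⧸ Q)
  let π : A →ₐ[k] K := (IsScalarTower.toAlgHom k (A ⧸ Q) K).comp (Ideal.Quotient.mkₐ k Q)
  have hπ : ∀ a, π a = 0 ↔ a ∈ Q := by
    intro a
    change algebraMap (A ⧸ Q) K (Ideal.Quotient.mk Q a) = 0 ↔ _
    rw [map_eq_zero_iff _ (IsFractionRing.injective (A ⧸ Q) K), Ideal.Quotient.eq_zero_iff_mem]
  let ψ : S →ₐ[k] K := π.comp φ
  have hψ : ∀ s, ψ s = 0 → z s = 0 := by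
    intro s hs
    have h1 : φ s ∈ Q := (hπ _).mp hs
    have h2 : s ∈ Q.comap φ.toRingHom := h1
    rw [hQP] at h2
    exact hPz h2
  -- the induced map on the image
  let zb : ψ.range →ₐ[k] k :=
    { toFun := fun d => z d.2.choose
      map_one' := by
        have h1 := (1 : ψ.range).2.choose_spec
        have h2 : ψ ((1 : ψ.range).2.choose - 1) = 0 := by
          rw [map_sub, map_one]
          exact sub_eq_zero.mpr h1
        have h3 := hψ _ h2
        rw [map_sub, map_one, sub_eq_zero] at h3
        exact h3
      map_mul' := fun a b => by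
        have h1 := (a * b).2.choose_spec
        have ha := a.2.choose_spec
        have hb := b.2.choose_spec
        have h2 : ψ ((a * b).2.choose - a.2.choose * b.2.choose) = 0 := by
          rw [map_sub, map_mul]
          exact sub_eq_zero.mpr (h1.trans (congrArg₂ (· * ·) ha.symm hb.symm))
        have h3 := hψ _ h2
        rw [map_sub, map_mul, sub_eq_zero] at h3
        exact h3
      map_zero' := by
        have h1 := (0 : ψ.range).2.choose_spec
        exact hψ _ h1
      map_add' := fun a b => by
        have h1 := (a + b).2.choose_spec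
        have ha := a.2.choose_spec
        have hb := b.2.choose_spec
        have h2 : ψ ((a + b).2.choose - (a.2.choose + b.2.choose)) = 0 := by
          rw [map_sub, map_add]
          exact sub_eq_zero.mpr (h1.trans (congrArg₂ (· + ·) ha.symm hb.symm))
        have h3 := hψ _ h2
        rw [map_sub, map_add, sub_eq_zero] at h3
        exact h3
      commutes' := fun c => by
        have h1 := (algebraMap k ψ.range c).2.choose_spec
        have h2 : ψ ((algebraMap k ψ.range c).2.choose - algebraMap k S c) = 0 := by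
          rw [map_sub, AlgHom.commutes]
          exact sub_eq_zero.mpr h1
        have h3 := hψ _ h2
        rw [map_sub, AlgHom.commutes, sub_eq_zero] at h3
        exact h3 }
  have hzb : ∀ s, zb ⟨ψ s, ⟨s, rfl⟩⟩ = z s := by
    intro s
    have h1 := (⟨ψ s, ⟨s, rfl⟩⟩ : ψ.range).2.choose_spec
    have h2 : ψ ((⟨ψ s, ⟨s, rfl⟩⟩ : ψ.range).2.choose - s) = 0 := by
      rw [map_sub]
      exact sub_eq_zero.mpr h1
    have h3 := hψ _ h2
    rw [map_sub, sub_eq_zero] at h3
    exact h3
  obtain ⟨V, hk, res, hres, hker, hext⟩ := exists_place ψ.range zb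
  let ik : k →+* V := (algebraMap k K).codRestrict V.toSubring hk
  letI : Algebra k V := ik.toAlgebra
  have htower : IsScalarTower k V K := IsScalarTower.of_algebraMap_eq (fun c => rfl)
  let e : FractionRing V ≃ₐ[V] K := FractionRing.algEquiv V K
  let ek : K →ₐ[k] FractionRing V := (e.symm.restrictScalars k : K ≃ₐ[k] FractionRing V)
  let resk : V →ₐ[k] k := { res with commutes' := hres }
  let h : S →ₐ[k] V :=
    { toFun := fun s => ⟨ψ s, (hext ⟨ψ s, ⟨s, rfl⟩⟩).choose⟩
      map_one' := Subtype.ext (map_one ψ)
      map_mul' := fun a b => Subtype.ext (map_mul ψ a b)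
      map_zero' := Subtype.ext (map_zero ψ)
      map_add' := fun a b => Subtype.ext (map_add ψ a b)
      commutes' := fun c => Subtype.ext (ψ.commutes c) }
  refine ⟨V, inferInstance, inferInstance, inferInstance, inferInstance, resk, ek.comp π, h, ?_, ?_, ?_⟩
  · ext v
    exact hker v
  · apply AlgHom.ext
    intro s
    apply e.injective
    change e (algebraMap V (FractionRing V) (h s)) = e (e.symm (ψ s))
    rw [AlgEquiv.commutes, AlgEquiv.apply_symm_apply]
    rfl
  · apply AlgHom.ext
    intro s
    obtain ⟨h1, h2⟩ := hext ⟨ψ s, ⟨s, rfl⟩⟩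
    rw [← hzb, ← h2]
    rfl

end K702.Place
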