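import Mathlib.RingTheory.Valuation.LocalSubring
import Mathlib.RingTheory.IntegralClosure.IsIntegral.Basic
import Mathlib.RingTheory.Localization.FractionRing
import Mathlib.RingTheory.Ideal.Prime
import Mathlib.RingTheory.Spectrum.Prime.Topology

/-!
The valuative criterion for integrality of a ring homomorphism, algebraic form.
-/

set_option autoImplicit false
universe u v

namespace K702.IntCrit

/-- A ring map `φ : R → A` such that every homomorphism from `A` to a field maps `A` into every
valuation ring that contains the image of `R`, is integral. -/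
theorem isIntegral_of_valuation {R : Type v} {A : Type u} [CommRing R] [CommRing A] (φ : R →+* A)
    (H : ∀ (K : Type u) [Field K] (V : ValuationSubring K) (ψ : A →+* K),
      (∀ r, ψ (φ r) ∈ V) → ∀ a, ψ a ∈ V) : φ.IsIntegral := by
  intro a
  by_contra hna
  -- multiplicative set of values of monic polynomials
  let M : Submonoid A :=
    { carrier := {b | ∃ f : Polynomial R, f.Monic ∧ f.eval₂ φ a = b}
      one_mem' := ⟨1, Polynomial.monic_one, by simp⟩
      mul_mem' := by
        rintro b c ⟨f, hf, rfl⟩ ⟨g, hg, rfl⟩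
        exact ⟨f * g, hf.mul hg, by rw [Polynomial.eval₂_mul]⟩ }
  have h0 : (0 : A) ∉ M := by
    rintro ⟨f, hf, hfa⟩
    exact hna ⟨f, hf, hfa⟩
  obtain ⟨P, hP, -, hPM⟩ := Ideal.exists_le_prime_disjoint (⊥ : Ideal A) M (by
    rw [Set.disjoint_left]
    rintro x hx hxM
    have : x = 0 := by simpa using hx
    exact h0 (this ▸ hxM))
  let K := FractionRing (A ⧸ P)
  let ψ : A →+* K := (algebraMap (A ⧸ P) K).comp (Ideal.Quotient.mk P)
  have hker : ∀ b, ψ b = 0 → b ∈ P := by
    intro b hb
    have h1 : Ideal.Quotient.mk P b = 0 :=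
      IsFractionRing.injective (A ⧸ P) K (by rw [map_zero]; exact hb)
    exact Ideal.Quotient.eq_zero_iff_mem.mp h1
  -- `ψ a` is in every valuation ring containing the image of `R`
  let s : Set K := Set.range (fun r => ψ (φ r))
  have hs : Subring.closure s = (ψ.comp φ).range := by
    apply le_antisymm
    · rw [Subring.closure_le]
      rintro _ ⟨r, rfl⟩
      exact ⟨r, rfl⟩
    · rintro _ ⟨r, rfl⟩
      exact Subring.subset_closure ⟨r, rfl⟩
  have hmem : ψ a ∈ (⨅ V : {V : ValuationSubring K // s ⊆ V.toSubring}, V.1.toSubring) := by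
    rw [Subring.mem_iInf]
    rintro ⟨V, hV⟩
    exact H K V ψ (fun r => hV ⟨r, rfl⟩) a
  rw [iInf_valuationSubring_superset] at hmem
  have hint : IsIntegral (Subring.closure s) (ψ a) := hmem
  obtain ⟨f, hf, hfa⟩ := hint
  -- lift `f` to `R`
  have hsurj : ∀ y : Subring.closure s, ∃ r : R, ψ (φ r) = (y : K) := by
    intro y
    have : (y : K) ∈ (ψ.comp φ).range := hs ▸ y.2
    obtain ⟨r, hr⟩ := this
    exact ⟨r, hr⟩
  let ρ : R →+* Subring.closure s := (ψ.comp φ).codRestrict (Subring.closure s) (fun r => by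
    exact Subring.subset_closure ⟨r, rfl⟩)
  have hρ : Function.Surjective ρ := by
    intro y
    obtain ⟨r, hr⟩ := hsurj y
    exact ⟨r, Subtype.ext hr⟩
  obtain ⟨g, hg, hgdeg, hgm⟩ := Polynomial.lifts_and_natDegree_eq_and_monic
    ((Polynomial.mem_lifts f).mpr (by
      obtain ⟨g, hg⟩ := Polynomial.map_surjective ρ hρ f
      exact ⟨g, hg⟩)) hf
  have h1 : ψ (g.eval₂ φ a) = 0 := by
    rw [Polynomial.hom_eval₂]
    rw [← hfa, ← hg, Polynomial.eval₂_map]
    rfl
  have h2 : g.eval₂ φ a ∈ P := hker _ h1
  exact Set.disjoint_left.mp hPM h2 ⟨g, hgm, rfl⟩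

/-- The range of the map on prime spectra of an integral ring map is closed. -/
theorem isClosed_range_of_isIntegral {R : Type v} {A : Type u} [CommRing R] [CommRing A] (φ : R →+* A)
    (hφ : φ.IsIntegral) : IsClosed (Set.range (PrimeSpectrum.comap φ)) := by
  have := PrimeSpectrum.isClosedMap_comap_of_isIntegral φ hφ
  exact this.isClosed_range

end K702.IntCrit
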