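import Groth.Agent.InvQ.K702.Points
import Groth.Agent.InvQ.K702.IntegralCrit
import Mathlib.RingTheory.Valuation.ValuationSubring
import Mathlib.RingTheory.LocalRing.ResidueField.Basic
import Mathlib.FieldTheory.IsAlgClosed.Basic
import Mathlib.RingTheory.FiniteType
import Mathlib.RingTheory.Jacobson.Ring
import Mathlib.LinearAlgebra.Matrix.NonsingularInverse

/-!
The core of the Hilbert-Mumford criterion for `SL_n` (stability): if no one-parameter subgroup has a
limit then the orbit map is integral.
-/

set_option autoImplicit false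
universe u w w'

open TensorProduct

namespace K702.HMCore

open CoordGrp K702.Pt K702.SL

variable {k : Type u} [Field k] {n : ℕ} {R : Type w} [CommRing R] [Algebra k R]
  [HopfRep.Comod k (SLn n k) R] [GLin.IsCoactAlg k (SLn n k) R]

/-- a diagonal point of `SL_n` -/
noncomputable def dg {B : Type u} [CommRing B] [Algebra k B] (d : Fin n → B) (h : ∏ i, d i = 1) :
    SLn n k →ₐ[k] B :=
  SLn.pt n k (Matrix.diagonal d) (by rw [Matrix.det_diagonal, h])

theorem mat_dg {B : Type u} [CommRing B] [Algebra k B] (d : Fin n → B) (h : ∏ i, d i = 1) :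
    mat (dg (k := k) d h) = Matrix.diagonal d := mat_pt _ _

/-- the functions `f i` are weight vectors of weight `wt i` for the diagonal torus -/
def HasWts {ι : Type w'} (k : Type u) [Field k] {R : Type w} [CommRing R] [Algebra k R]
    [HopfRep.Comod k (SLn n k) R] [GLin.IsCoactAlg k (SLn n k) R]
    (f : ι → R) (wt : ι → Fin n → ℤ) : Prop :=
  ∀ (B : Type u) [CommRing B] [Algebra k B] (y : R →ₐ[k] B) (t : Fin n → Bˣ)
    (ht : ∏ i, (t i : B) = 1) (i : ι),
      mv y (dg (fun j => (t j : B)) ht) (f i) = y (f i) * ((∏ j, t j ^ wt i j : Bˣ) : B)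

/-- Nullstellensatz: an ideal of a finitely generated algebra over an algebraically closed field
killed by a point with values in a nontrivial ring is killed by a rational point. -/
theorem exists_pt_of_pt [IsAlgClosed k] {A : Type u} [CommRing A] [Algebra k A] [Algebra.FiniteType k A]
    {B : Type u} [CommRing B] [Nontrivial B] [Algebra k B] (g : A →ₐ[k] B) (s : Set A)
    (hs : ∀ a ∈ s, g a = 0) : ∃ g' : A →ₐ[k] k, ∀ a ∈ s, g' a = 0 := by
  have hne : Ideal.span s ≠ ⊤ := by
    intro h
    have h1 : (1 : A) ∈ Ideal.span s := by rw [h]; trivial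
    have h2 : Ideal.span s ≤ RingHom.ker g := Ideal.span_le.mpr hs
    have h3 : g 1 = 0 := h2 h1
    rw [map_one] at h3
    exact one_ne_zero h3
  obtain ⟨m, hm, hle⟩ := Ideal.exists_le_maximal _ hne
  letI : Field (A ⧸ m) := Ideal.Quotient.field m
  have hft : Algebra.FiniteType k (A ⧸ m) := inferInstance
  have hfin : Module.Finite k (A ⧸ m) := finite_of_finite_type_of_isJacobsonRing k (A ⧸ m)
  have hbij : Function.Bijective (algebraMap k (A ⧸ m)) :=
    IsAlgClosed.algebraMap_bijective_of_isIntegral
  let e : (A ⧸ m) →ₐ[k] k := (AlgEquiv.ofBijective (Algebra.ofId k (A ⧸ m)) hbij).symm.toAlgHom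
  refine ⟨e.comp (Ideal.Quotient.mkₐ k m), fun a ha => ?_⟩
  have : Ideal.Quotient.mkₐ k m a = 0 := Ideal.Quotient.eq_zero_iff_mem.mpr (hle (Ideal.subset_span ha))
  rw [AlgHom.comp_apply, this, map_zero]

theorem finiteType_GLn (k : Type u) [Field k] (n : ℕ) : Algebra.FiniteType k (GLn n k) := by
  have h1 : Algebra.FiniteType k (GLb n k) :=
    inferInstanceAs (Algebra.FiniteType k (MvPolynomial (GLPoly.Idx n) k))
  exact Algebra.FiniteType.of_surjective (GLn.mk n k) Ideal.Quotient.mk_surjective

theorem finiteType_SLn (k : Type u) [Field k] (n : ℕ) : Algebra.FiniteType k (SLn n k) := by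
  have := finiteType_GLn k n
  exact Algebra.FiniteType.of_surjective (SLn.mk n k) Ideal.Quotient.mk_surjective

end K702.HMCore
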