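import Groth.Prelude.Def_GLin5
import Mathlib.RingTheory.TensorProduct.Maps

/-!
Points with values in a `k`-algebra `B`: moving a `B`-point of `Spec R` by a `B`-point of the group,
product of `B`-points of the group, points of `SL_n` as matrices.
-/

set_option autoImplicit false
universe u v w x x'

open TensorProduct

namespace K702.Pt

section General
variable {k : Type u} [CommRing k] {A : Type v} [CommRing A] [Bialgebra k A]
  {R : Type w} [CommRing R] [Algebra k R] [HopfRep.Comod k A R] [GLin.IsCoactAlg k A R]
variable {B : Type x} [CommRing B] [Algebra k B] {C : Type x'} [CommRing C] [Algebra k C]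

/-- the `B`-point `y` of `Spec R` moved by the `B`-point `g` of `Spec A` -/
noncomputable def mv (y : R →ₐ[k] B) (g : A →ₐ[k] B) : R →ₐ[k] B :=
  (Algebra.TensorProduct.lift y g (fun _ _ => Commute.all _ _)).comp (GLin.coactAlgHom k A R)

/-- product of `B`-points of `Spec A` -/
noncomputable def cmul (g h : A →ₐ[k] B) : A →ₐ[k] B :=
  (Algebra.TensorProduct.lift g h (fun _ _ => Commute.all _ _)).comp (Bialgebra.comulAlgHom k A)

/-- the unit `B`-point -/
noncomputable def cone (k : Type u) [CommRing k] (A : Type v) [CommRing A] [Bialgebra k A]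
    (B : Type x) [CommRing B] [Algebra k B] : A →ₐ[k] B :=
  (Algebra.ofId k B).comp (Bialgebra.counitAlgHom k A)

theorem comp_mv (φ : B →ₐ[k] C) (y : R →ₐ[k] B) (g : A →ₐ[k] B) :
    φ.comp (mv y g) = mv (φ.comp y) (φ.comp g) := by
  have : φ.comp (Algebra.TensorProduct.lift y g (fun _ _ => Commute.all _ _)) =
      Algebra.TensorProduct.lift (φ.comp y) (φ.comp g) (fun _ _ => Commute.all _ _) := by
    ext <;> simp
  rw [mv, mv, ← AlgHom.comp_assoc, this]

theorem comp_cmul (φ : B →ₐ[k] C) (g h : A →ₐ[k] B) :
    φ.comp (cmul g h) = cmul (φ.comp g) (φ.comp h) := by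
  have : φ.comp (Algebra.TensorProduct.lift g h (fun _ _ => Commute.all _ _)) =
      Algebra.TensorProduct.lift (φ.comp g) (φ.comp h) (fun _ _ => Commute.all _ _) := by
    ext <;> simp
  rw [cmul, cmul, ← AlgHom.comp_assoc, this]

theorem comp_cone (φ : B →ₐ[k] C) : φ.comp (cone k A B) = cone k A C := by
  apply AlgHom.ext
  intro a
  simp [cone, Algebra.ofId_apply]

theorem mv_mv (y : R →ₐ[k] B) (g h : A →ₐ[k] B) : mv (mv y g) h = mv y (cmul g h) := by
  apply AlgHom.ext
  intro f
  have hc := congrArg (fun F => F f) (HopfRep.Comod.coassoc (k := k) (A := A) (V := R))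
  simp only [LinearMap.comp_apply, LinearEquiv.coe_coe] at hc
  have h1 : ∀ t : R ⊗[k] A, Algebra.TensorProduct.lift (mv y g) h (fun _ _ => Commute.all _ _) t =
      Algebra.TensorProduct.lift y (Algebra.TensorProduct.lift g h (fun _ _ => Commute.all _ _))
        (fun _ _ => Commute.all _ _)
        ((TensorProduct.assoc k R A A) ((HopfRep.Comod.coact (k := k) (A := A)).rTensor A t)) := by
    intro t
    induction t using TensorProduct.induction_on with
    | zero => simp
    | tmul r a =>
      rw [Algebra.TensorProduct.lift_tmul, LinearMap.rTensor_tmul]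
      simp only [mv, AlgHom.comp_apply, GLin.coactAlgHom_apply]
      induction (HopfRep.Comod.coact (k := k) (A := A) r) using TensorProduct.induction_on with
      | zero => simp
      | tmul p q => simp [mul_assoc]
      | add p q hp hq => simp only [map_add, add_mul, TensorProduct.add_tmul, hp, hq]
    | add p q hp hq => simp only [map_add, hp, hq]
  have h2 : ∀ t : R ⊗[k] A, Algebra.TensorProduct.lift y (cmul g h) (fun _ _ => Commute.all _ _) t =
      Algebra.TensorProduct.lift y (Algebra.TensorProduct.lift g h (fun _ _ => Commute.all _ _))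
        (fun _ _ => Commute.all _ _) ((CoalgebraStruct.comul (R := k) (A := A)).lTensor R t) := by
    intro t
    induction t using TensorProduct.induction_on with
    | zero => simp
    | tmul r a => simp [cmul]
    | add p q hp hq => simp only [map_add, hp, hq]
  change Algebra.TensorProduct.lift (mv y g) h (fun _ _ => Commute.all _ _)
      (HopfRep.Comod.coact (k := k) (A := A) f) =
    Algebra.TensorProduct.lift y (cmul g h) (fun _ _ => Commute.all _ _)
      (HopfRep.Comod.coact (k := k) (A := A) f)
  rw [h1, h2, hc]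

theorem mv_cone (y : R →ₐ[k] B) : mv y (cone k A B) = y := by
  apply AlgHom.ext
  intro f
  have hc := congrArg (fun F => F f) (HopfRep.Comod.counit_comp (k := k) (A := A) (V := R))
  simp only [LinearMap.comp_apply, LinearMap.flip_apply, TensorProduct.mk_apply] at hc
  have h1 : ∀ t : R ⊗[k] A, Algebra.TensorProduct.lift y (cone k A B) (fun _ _ => Commute.all _ _) t =
      Algebra.TensorProduct.lift y (Algebra.ofId k B) (fun _ _ => Commute.all _ _)
        ((CoalgebraStruct.counit (R := k) (A := A)).lTensor R t) := by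
    intro t
    induction t using TensorProduct.induction_on with
    | zero => simp
    | tmul r a => simp [cone]
    | add p q hp hq => simp only [map_add, hp, hq]
  change Algebra.TensorProduct.lift y (cone k A B) (fun _ _ => Commute.all _ _)
      (HopfRep.Comod.coact (k := k) (A := A) f) = _
  rw [h1, hc]
  simp

theorem comp_orbitHom (g : A →ₐ[k] B) (x : R →ₐ[k] k) :
    g.comp (GLin.orbitHom k A x) = mv ((Algebra.ofId k B).comp x) g := by
  apply AlgHom.ext
  intro f
  simp only [AlgHom.comp_apply, GLin.orbitHom, mv, GLin.coactAlgHom_apply]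
  induction (HopfRep.Comod.coact (k := k) (A := A) f) using TensorProduct.induction_on with
  | zero => simp
  | tmul p q => simp [Algebra.ofId_apply, Algebra.smul_def]
  | add p q hp hq => simp only [map_add, hp, hq]

theorem actPt_eq_mv (g : A →ₐ[k] k) (x : R →ₐ[k] k) : GLin.actPt k g x = mv x g := by
  rw [GLin.actPt, comp_orbitHom]
  congr 1

end General

end K702.Pt

namespace K702.SL

open CoordGrp K702.Pt

variable {n : ℕ} {k : Type u} [CommRing k] {B : Type x} [CommRing B] [Algebra k B]
  {C : Type x'} [CommRing C] [Algebra k C]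

theorem mk_Dinv : SLn.mk n k GLn.Dinv = 1 := by
  have h1 : SLn.mk n k (GLn.det * GLn.Dinv) = 1 := by rw [GLn.det_mul_Dinv, map_one]
  rw [map_mul, SLn.det_eq_one, one_mul] at h1
  exact h1

theorem ext {f g : SLn n k →ₐ[k] B} (h : ∀ i j, f (SLn.X i j) = g (SLn.X i j)) : f = g := by
  refine SLn.algHom_ext h ?_
  rw [mk_Dinv, map_one, map_one]

/-- the matrix of a point -/
noncomputable def mat (g : SLn n k →ₐ[k] B) : Matrix (Fin n) (Fin n) B := fun i j => g (SLn.X i j)

@[simp] theorem mat_apply (g : SLn n k →ₐ[k] B) (i j : Fin n) : mat g i j = g (SLn.X i j) := rfl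

theorem det_mat (g : SLn n k →ₐ[k] B) : (mat g).det = 1 := by
  have h1 : (SLn.mk n k) (GLn.det : GLn n k) = 1 := SLn.det_eq_one
  rw [GLn.det_eq, AlgHom.map_det] at h1
  have h2 := congrArg g h1
  rw [AlgHom.map_det, map_one] at h2
  rw [← h2]
  rfl

@[simp] theorem mat_pt (M : Matrix (Fin n) (Fin n) B) (h : M.det = 1) : mat (SLn.pt n k M h) = M := by
  ext i j
  exact SLn.pt_X M h i j

theorem pt_mat (g : SLn n k →ₐ[k] B) : SLn.pt n k (mat g) (det_mat g) = g := by
  apply ext
  intro i j
  rw [SLn.pt_X]
  rfl

theorem mat_injective : Function.Injective (mat : (SLn n k →ₐ[k] B) → Matrix (Fin n) (Fin n) B) := by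
  intro f g h
  apply ext
  intro i j
  exact congrFun (congrFun h i) j

theorem comul_X (i j : Fin n) :
    CoalgebraStruct.comul (R := k) (SLn.X i j : SLn n k) = ∑ l : Fin n, SLn.X i l ⊗ₜ[k] SLn.X l j := by
  have h := Bialgebra.Quotient.comul_mk (R := k) (GLn.slIdeal n k) (GLn.X i j)
  change CoalgebraStruct.comul (R := k) (SLn.mk n k (GLn.X i j)) = _
  refine h.trans ?_
  rw [GLn.comul_X, map_sum]
  rfl

theorem counit_X (i j : Fin n) :
    CoalgebraStruct.counit (R := k) (SLn.X i j : SLn n k) = if i = j then (1 : k) else 0 := by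
  change CoalgebraStruct.counit (R := k) (GLn.X i j : GLn n k) = _
  exact GLn.counit_X i j

theorem mat_cmul (g h : SLn n k →ₐ[k] B) : mat (cmul g h) = mat g * mat h := by
  ext i j
  rw [mat_apply, Matrix.mul_apply]
  change Algebra.TensorProduct.lift g h (fun _ _ => Commute.all _ _)
    (CoalgebraStruct.comul (R := k) (SLn.X i j : SLn n k)) = _
  rw [comul_X, map_sum]
  simp

theorem mat_cone : mat (cone k (SLn n k) B) = 1 := by
  ext i j
  rw [mat_apply, Matrix.one_apply]
  change algebraMap k B (CoalgebraStruct.counit (R := k) (SLn.X i j : SLn n k)) = _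
  rw [counit_X]
  split_ifs <;> simp

theorem mat_comp (φ : B →ₐ[k] C) (g : SLn n k →ₐ[k] B) : mat (φ.comp g) = (mat g).map φ := by
  ext i j
  rfl

end K702.SL
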