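import Groth.Agent.InvQ.K702.HMInt
import Mathlib.RingTheory.IntegralClosure.Algebra.Basic
import Mathlib.Algebra.Polynomial.Laurent
import Mathlib.RingTheory.Finiteness.Basic

/-!
Stability for `SL_n`: the numerical criterion.
-/

set_option autoImplicit false
universe u w w'

open TensorProduct LaurentPolynomial

namespace K702.HMStab

open CoordGrp K702.Pt K702.SL K702.HMCore K702.HMInt

section Suff
variable {k : Type u} [Field k] {n : ℕ} {R : Type w} [CommRing R] [Algebra k R]
  [HopfRep.Comod k (SLn n k) R] [GLin.IsCoactAlg k (SLn n k) R]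

theorem hasFiniteStab_of_isIntegral (x : R →ₐ[k] k)
    (h : (GLin.orbitHom k (SLn n k) x).toRingHom.IsIntegral) : GLin.HasFiniteStab k (SLn n k) x := by
  haveI := finiteType_SLn k n
  have hint : Algebra.IsIntegral k (SLn n k ⧸ GLin.stabIdeal k (SLn n k) x) := by
    constructor
    intro b
    obtain ⟨a, rfl⟩ := Ideal.Quotient.mk_surjective b
    obtain ⟨f, hf, hfa⟩ := h a
    refine ⟨f.map x.toRingHom, hf.map _, ?_⟩
    rw [Polynomial.eval₂_map]
    have h1 : (algebraMap k (SLn n k ⧸ GLin.stabIdeal k (SLn n k) x)).comp x.toRingHom =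
        (Ideal.Quotient.mk (GLin.stabIdeal k (SLn n k) x)).comp
          (GLin.orbitHom k (SLn n k) x).toRingHom := by
      ext r
      change Ideal.Quotient.mk _ (algebraMap k (SLn n k) (x r)) =
        Ideal.Quotient.mk _ (GLin.orbitHom k (SLn n k) x r)
      rw [Ideal.Quotient.eq]
      have h2 : algebraMap k (SLn n k) (x r) - GLin.orbitHom k (SLn n k) x r =
          GLin.orbitHom k (SLn n k) x (algebraMap k R (x r) - r) := by
        rw [map_sub, AlgHom.commutes]
      rw [h2]
      apply Ideal.mem_map_of_mem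
      rw [RingHom.mem_ker, map_sub, AlgHom.commutes]
      simp
    rw [h1, ← Polynomial.hom_eval₂, hfa, map_zero]
  have hft : Algebra.FiniteType k (SLn n k ⧸ GLin.stabIdeal k (SLn n k) x) := inferInstance
  exact Algebra.IsIntegral.finite

theorem isStablePt_of_noLimit [IsAlgClosed k] {ι : Type w'} [Finite ι] (f : ι → R)
    (wt : ι → Fin n → ℤ)
    (hW : HasWts k f wt) (x : R →ₐ[k] k)
    (hNL : ∀ (g : SLn n k →ₐ[k] k) (r : Fin n → ℤ), ∑ j, r j = 0 →
      (∀ i, ∑ j, wt i j * r j < 0 → mv x g (f i) = 0) → r = 0) :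
    GLin.IsStablePt k (SLn n k) x := by
  have h := isIntegral_orbitHom f wt hW x hNL
  exact ⟨IntCrit.isClosed_range_of_isIntegral _ h, hasFiniteStab_of_isIntegral x h⟩

end Suff

section Nec

variable {k : Type u} [Field k] {n : ℕ}

/-- an element of the Laurent polynomial ring integral over an algebraically closed field is constant -/
theorem eq_C_of_isIntegral [IsAlgClosed k] (b : k[T;T⁻¹]) (hb : IsIntegral k b) :
    ∃ c : k, b = algebraMap k k[T;T⁻¹] c := by
  obtain ⟨f, hf, hfb⟩ := hb
  have h1 : f.Splits := IsAlgClosed.splits f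
  have h2 : f = (f.roots.map fun a => Polynomial.X - Polynomial.C a).prod := by
    have := h1.eq_prod_roots
    rw [hf.leadingCoeff, map_one, one_mul] at this
    exact this
  rw [h2] at hfb
  have h3 : (Polynomial.eval₂RingHom (algebraMap k k[T;T⁻¹]) b)
      ((f.roots.map fun a => Polynomial.X - Polynomial.C a).prod) = 0 := hfb
  rw [map_multiset_prod, Multiset.prod_eq_zero_iff, Multiset.map_map] at h3
  obtain ⟨c, -, hc⟩ := Multiset.mem_map.mp h3
  refine ⟨c, ?_⟩
  have h4 : b - algebraMap k k[T;T⁻¹] c = 0 := by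
    simpa using hc
  exact sub_eq_zero.mp h4

variable {ι : Type w} [Fintype ι] [HopfRep.Comod k (SLn n k) (MvPolynomial ι k)]
  [GLin.IsCoactAlg k (SLn n k) (MvPolynomial ι k)]

theorem mv_X_eq {B : Type u} [CommRing B] [Algebra k B] (wt : ι → Fin n → ℤ)
    (hW : HasWts k (fun i : ι => (MvPolynomial.X i : MvPolynomial ι k)) wt)
    (y : MvPolynomial ι k →ₐ[k] B) (t : Fin n → Bˣ) (ht : ∏ i, (t i : B) = 1) (i : ι) :
    mv y (dg (fun j => (t j : B)) ht) (MvPolynomial.X i) =
      y (MvPolynomial.X i) * ((∏ j, t j ^ wt i j : Bˣ) : B) := hW B y t ht i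

/-- the units `T^(r j)` -/
noncomputable def tUnit (r : Fin n → ℤ) : Fin n → (k[T;T⁻¹])ˣ := fun j =>
  ⟨T (r j), T (-r j), by rw [← T_add, add_neg_cancel, T_zero], by rw [← T_add, neg_add_cancel, T_zero]⟩

theorem tUnit_val (r : Fin n → ℤ) (j : Fin n) : ((tUnit (k := k) r j : (k[T;T⁻¹])ˣ) : k[T;T⁻¹]) = T (r j) := rfl

theorem tUnit_zpow (r : Fin n → ℤ) (j : Fin n) (m : ℤ) :
    ((tUnit (k := k) r j ^ m : (k[T;T⁻¹])ˣ) : k[T;T⁻¹]) = T (m * r j) := by
  induction m using Int.induction_on with
  | zero => simp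
  | succ m ih =>
    rw [zpow_add_one, Units.val_mul, ih, tUnit_val, ← T_add]
    congr 1; ring
  | pred m ih =>
    rw [zpow_sub_one, Units.val_mul, ih]
    change T _ * T (-r j) = _
    rw [← T_add]
    congr 1; ring

theorem prod_tUnit (r : Fin n → ℤ) (a : Fin n → ℤ) :
    ((∏ j, tUnit (k := k) r j ^ a j : (k[T;T⁻¹])ˣ) : k[T;T⁻¹]) = T (∑ j, a j * r j) := by
  rw [Units.coe_prod, Finset.prod_congr rfl fun j _ => tUnit_zpow r j (a j), GLn.prod_T]

theorem prod_tUnit_one (r : Fin n → ℤ) (hr : ∑ j, r j = 0) :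
    ∏ j, ((tUnit (k := k) r j : (k[T;T⁻¹])ˣ) : k[T;T⁻¹]) = 1 := by
  rw [Finset.prod_congr rfl fun j _ => tUnit_val r j, GLn.prod_T, hr, T_zero]

/-- a stable point has no limits along nontrivial diagonal one-parameter subgroups -/
theorem noLimit_of_isStablePt [IsAlgClosed k] (wt : ι → Fin n → ℤ)
    (hW : HasWts k (fun i : ι => (MvPolynomial.X i : MvPolynomial ι k)) wt)
    (x : MvPolynomial ι k →ₐ[k] k) (hx : GLin.IsStablePt k (SLn n k) x)
    (g : SLn n k →ₐ[k] k) (r : Fin n → ℤ) (hr : ∑ j, r j = 0)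
    (hlim : ∀ i, ∑ j, wt i j * r j < 0 → mv x g (MvPolynomial.X i) = 0) : r = 0 := by
  classical
  obtain ⟨hcl, hfs⟩ := hx
  set φ := GLin.orbitHom k (SLn n k) x with hφ
  let L := k[T;T⁻¹]
  let cL : k →ₐ[k] L := Algebra.ofId k L
  let x' : MvPolynomial ι k →ₐ[k] k := mv x g
  let lam : SLn n k →ₐ[k] L := dg (fun j => ((tUnit (k := k) r j : Lˣ) : L)) (prod_tUnit_one r hr)
  -- the orbit of `x'` under `lam`
  have horb : ∀ i, mv (cL.comp x') lam (MvPolynomial.X i) =
      cL (x' (MvPolynomial.X i)) * T (∑ j, wt i j * r j) := by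
    intro i
    rw [mv_X_eq wt hW (cL.comp x') (tUnit (k := k) r) (prod_tUnit_one r hr) i, prod_tUnit]
    rfl
  -- extension to the affine line
  let h : MvPolynomial ι k →ₐ[k] Polynomial k :=
    MvPolynomial.aeval fun i => Polynomial.C (x' (MvPolynomial.X i)) *
      Polynomial.X ^ (∑ j, wt i j * r j).toNat
  have hh : (Polynomial.toLaurentAlg (R := k)).comp h = mv (cL.comp x') lam := by
    apply MvPolynomial.algHom_ext
    intro i
    rw [horb]
    simp only [AlgHom.comp_apply, h, MvPolynomial.aeval_X, Polynomial.toLaurentAlg_apply, map_mul,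
      Polynomial.toLaurent_C, Polynomial.toLaurent_X_pow]
    by_cases hi : ∑ j, wt i j * r j < 0
    · have : x' (MvPolynomial.X i) = 0 := hlim i hi
      rw [this]; simp
    · rw [Int.toNat_of_nonneg (not_lt.mp hi)]
      rfl
  let y : MvPolynomial ι k →ₐ[k] k := (Polynomial.aeval (0 : k)).comp h
  have hyX : ∀ i, y (MvPolynomial.X i) = if ∑ j, wt i j * r j = 0 then x' (MvPolynomial.X i) else 0 := by
    intro i
    simp only [y, AlgHom.comp_apply, h, MvPolynomial.aeval_X, map_mul, map_pow, Polynomial.aeval_X,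
      Polynomial.aeval_C]
    rcases lt_trichotomy (∑ j, wt i j * r j) 0 with hi | hi | hi
    · rw [if_neg hi.ne]
      have : x' (MvPolynomial.X i) = 0 := hlim i hi
      rw [this]; simp
    · rw [if_pos hi, hi]; simp
    · rw [if_neg hi.ne', zero_pow, mul_zero]
      intro h0
      have := Int.toNat_eq_zero.mp h0
      omega
  -- `y` is in the closure of the orbit
  have hker : ∀ f, φ f = 0 → y f = 0 := by
    intro f hf
    have h1 : mv (cL.comp x') lam f = 0 := by
      have h2 : mv (cL.comp x') lam = (cmul (cL.comp g) lam).comp φ := by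
        rw [hφ, comp_orbitHom, ← mv_mv]
        congr 1
        simp only [x']
        rw [comp_mv]
      rw [h2, AlgHom.comp_apply, hf, map_zero]
    rw [← hh] at h1
    have h3 : h f = 0 := Polynomial.toLaurent_injective (by
      rw [map_zero]; exact h1)
    change (Polynomial.aeval (0 : k)) (h f) = 0
    rw [h3, map_zero]
  -- so `y` is in the orbit
  have hymax : (RingHom.ker y.toRingHom).IsMaximal :=
    RingHom.ker_isMaximal_of_surjective y.toRingHom (fun c => ⟨algebraMap k _ c, y.commutes c⟩)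
  have hyr : (⟨RingHom.ker y.toRingHom, hymax.isPrime⟩ : PrimeSpectrum (MvPolynomial ι k)) ∈
      Set.range (PrimeSpectrum.comap φ.toRingHom) := by
    have : (⟨RingHom.ker y.toRingHom, hymax.isPrime⟩ : PrimeSpectrum (MvPolynomial ι k)) ∈
        closure (Set.range (PrimeSpectrum.comap φ.toRingHom)) := by
      rw [PrimeSpectrum.closure_range_comap, PrimeSpectrum.mem_zeroLocus]
      intro f hf
      exact hker f hf
    rwa [hcl.closure_eq] at this
  obtain ⟨q, hq⟩ := hyr
  haveI := finiteType_SLn k n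
  have hg' : ∃ g' : SLn n k →ₐ[k] k, ∀ f, y f = 0 → g' (φ f) = 0 := by
    obtain ⟨g', hg'⟩ := exists_pt_of_pt (Ideal.Quotient.mkₐ k q.asIdeal)
      (s := φ '' {f | y f = 0}) (by
        rintro _ ⟨f, hf, rfl⟩
        apply Ideal.Quotient.eq_zero_iff_mem.mpr
        have : f ∈ (PrimeSpectrum.comap φ.toRingHom q).asIdeal := by
          rw [hq]; exact hf
        exact this)
    exact ⟨g', fun f hf => hg' _ ⟨f, hf, rfl⟩⟩
  obtain ⟨g', hg'⟩ := hg'
  have hyg : y = mv x g' := by
    rw [← mv_ofId_k]
    apply AlgHom.ext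
    intro f
    have h1 : g' (φ (f - algebraMap k _ (y f))) = 0 := by
      apply hg'
      rw [map_sub, AlgHom.commutes]; simp
    rw [map_sub, map_sub, AlgHom.commutes, AlgHom.commutes, sub_eq_zero] at h1
    exact h1.symm
  -- `lam` fixes `y`
  have hfix : mv (cL.comp y) lam = cL.comp y := by
    apply MvPolynomial.algHom_ext
    intro i
    rw [mv_X_eq wt hW (cL.comp y) (tUnit (k := k) r) (prod_tUnit_one r hr) i, prod_tUnit]
    rw [AlgHom.comp_apply, hyX]
    split_ifs with hi
    · rw [hi, T_zero, mul_one]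
    · rw [map_zero, zero_mul]
  -- the point `σ = g' lam g'⁻¹` fixes `x`
  let G : Matrix (Fin n) (Fin n) k := mat g'
  have hGdet : G.det = 1 := det_mat g'
  have hGadj : G.adjugate.det = 1 := by rw [Matrix.det_adjugate, hGdet, one_pow]
  let g'' : SLn n k →ₐ[k] k := SLn.pt n k G.adjugate hGadj
  have hgg : cmul g' g'' = cone k (SLn n k) k := by
    apply mat_injective
    rw [mat_cmul, mat_cone, mat_pt]
    change G * G.adjugate = 1
    rw [Matrix.mul_adjugate, hGdet, one_smul]
  let σ : SLn n k →ₐ[k] L := cmul (cmul (cL.comp g') lam) (cL.comp g'')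
  have hσ : mv (cL.comp x) σ = cL.comp x := by
    simp only [σ]
    rw [← mv_mv, ← mv_mv, ← comp_mv, ← hyg, hfix, ← comp_mv, hyg, mv_mv, hgg, mv_cone]
  -- so `σ` factors through the stabiliser
  have hσstab : ∀ a ∈ GLin.stabIdeal k (SLn n k) x, σ a = 0 := by
    have : GLin.stabIdeal k (SLn n k) x ≤ RingHom.ker σ := by
      rw [GLin.stabIdeal, Ideal.map_le_iff_le_comap]
      intro f hf
      rw [Ideal.mem_comap, RingHom.mem_ker]
      have h1 : σ (φ f) = (mv (cL.comp x) σ) f := by
        rw [← comp_orbitHom]; rfl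
      have h2 : σ (φ f) = 0 := by
        rw [h1, hσ, AlgHom.comp_apply]
        have : x f = 0 := hf
        rw [this, map_zero]
      exact h2
    intro a ha
    exact this ha
  have hconst : ∀ a, ∃ c : k, σ a = algebraMap k L c := by
    intro a
    apply eq_C_of_isIntegral
    haveI : Module.Finite k (SLn n k ⧸ GLin.stabIdeal k (SLn n k) x) := hfs
    have h1 : IsIntegral k (Ideal.Quotient.mk (GLin.stabIdeal k (SLn n k) x) a) :=
      Algebra.IsIntegral.isIntegral _
    have h2 := h1.map (Ideal.Quotient.liftₐ (GLin.stabIdeal k (SLn n k) x) σ hσstab)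
    exact h2
  -- hence `diag(T^r)` has constant entries
  choose c hc using fun p : Fin n × Fin n => hconst (SLn.X p.1 p.2)
  let N : Matrix (Fin n) (Fin n) k := fun i j => c (i, j)
  have hN : mat σ = N.map (algebraMap k L) := by
    ext i j
    rw [mat_apply, hc (i, j)]
    rfl
  have hσm : mat σ = G.map (algebraMap k L) * Matrix.diagonal (fun j => (T (r j) : L)) *
      G.adjugate.map (algebraMap k L) := by
    simp only [σ]
    rw [mat_cmul, mat_cmul, mat_comp, mat_comp, mat_dg, mat_pt]
    rfl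
  have hGL1 : G.adjugate.map (algebraMap k L) * G.map (algebraMap k L) = 1 := by
    rw [← Matrix.map_mul, Matrix.adjugate_mul, hGdet, one_smul]
    exact Matrix.map_one _ (map_zero _) (map_one _)
  have hdiag : Matrix.diagonal (fun j => (T (r j) : L)) =
      (G.adjugate * N * G).map (algebraMap k L) := by
    rw [Matrix.map_mul, Matrix.map_mul, ← hN, hσm]
    calc Matrix.diagonal (fun j => (T (r j) : L)) =
        (G.adjugate.map (algebraMap k L) * G.map (algebraMap k L)) *
          Matrix.diagonal (fun j => (T (r j) : L)) *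
          (G.adjugate.map (algebraMap k L) * G.map (algebraMap k L)) := by
            rw [hGL1, one_mul, mul_one]
      _ = _ := by simp only [mul_assoc]
  funext j
  have h1 : (T (r j) : L) = algebraMap k L ((G.adjugate * N * G) j j) := by
    have := congrFun (congrFun hdiag j) j
    rw [Matrix.diagonal_apply_eq] at this
    exact this
  by_contra hrj
  have hrj' : r j ≠ 0 := hrj
  have h2 : (T (r j) : L) = C ((G.adjugate * N * G) j j) := h1
  have h3 : (Finsupp.single (r j) (1 : k) : ℤ →₀ k) = Finsupp.single 0 ((G.adjugate * N * G) j j) :=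
    congrArg AddMonoidAlgebra.coeff h2
  have h4 := congrArg (fun F : ℤ →₀ k => F (r j)) h3
  simp only [Finsupp.single_eq_same] at h4
  rw [Finsupp.single_eq_of_ne hrj'] at h4
  exact one_ne_zero h4

/-- The numerical criterion of stability for `SL_n` acting on affine space with diagonal torus acting
on the coordinates through the weights `wt`. -/
theorem isStablePt_iff [IsAlgClosed k] (wt : ι → Fin n → ℤ)
    (hW : HasWts k (fun i : ι => (MvPolynomial.X i : MvPolynomial ι k)) wt)
    (x : MvPolynomial ι k →ₐ[k] k) :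
    GLin.IsStablePt k (SLn n k) x ↔
      ∀ (g : SLn n k →ₐ[k] k) (r : Fin n → ℤ), ∑ j, r j = 0 →
        (∀ i, ∑ j, wt i j * r j < 0 → mv x g (MvPolynomial.X i) = 0) → r = 0 := by
  constructor
  · intro hx g r hr hlim
    exact noLimit_of_isStablePt wt hW x hx g r hr hlim
  · intro hNL
    exact isStablePt_of_noLimit (fun i : ι => (MvPolynomial.X i : MvPolynomial ι k)) wt hW x hNL

end Nec

end K702.HMStab
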