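import Groth.Agent.InvQ.K702.Forms
import Groth.Agent.InvQ.K702.HMStab

/-!
The numerical criterion of stability for forms of degree `d` in `N` variables under `SL_N`, in terms
of the form itself.
-/

set_option autoImplicit false
universe u v x

open TensorProduct LaurentPolynomial

namespace K702.FormsStab

open CoordGrp K702.Pt K702.SL K702.HMCore K702.HMStab K702.Forms

variable {k : Type u} [Field k] {N d : ℕ}

/-- the coaction of `SL_N` on the space of forms -/
noncomputable abbrev coactF (k : Type u) [Field k] (N d : ℕ) : HopfRep.Comod k (SLn N k) (FormRing k N d) :=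
  GLin.comodAlong ((SLn.mkHom N k).comp (Mat.toGLn N k)) (formsCoact k N d)

theorem coactF_isCoactAlg (k : Type u) [Field k] (N d : ℕ) :
    @GLin.IsCoactAlg k _ (SLn N k) _ _ (FormRing k N d) _ _ (coactF k N d) :=
  GLin.isCoactAlg_comodAlong ((SLn.mkHom N k).comp (Mat.toGLn N k)) (formsCoact k N d)
    (formsCoact_isCoactAlg k N d)

attribute [local instance] coactF coactF_isCoactAlg

/-- the composite `O(Mat) → O(SL) → B` is evaluation at the matrix of the point -/
theorem comp_toSL {B : Type x} [CommRing B] [Algebra k B] (g : SLn N k →ₐ[k] B) (a : Mat N k) :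
    g (((SLn.mkHom N k).comp (Mat.toGLn N k)) a) = Mat.aeval N k (mat g) a := by
  have h : g.comp (((SLn.mkHom N k).comp (Mat.toGLn N k) : Mat N k →ₐc[k] SLn N k) : Mat N k →ₐ[k] SLn N k) =
      Mat.aeval N k (mat g) := by
    apply Mat.algHom_ext
    intro i j
    rw [Mat.aeval_X]
    have : ((SLn.mkHom N k).comp (Mat.toGLn N k)) (Mat.X i j) = SLn.X i j := by
      rw [BialgHom.comp_apply, Mat.toGLn_X]
      rfl
    change g (((SLn.mkHom N k).comp (Mat.toGLn N k)) (Mat.X i j)) = _
    rw [this]
    rfl
  exact congrArg (fun φ => φ a) h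

/-- the coordinates of a moved point of the space of forms -/
theorem mv_X {B : Type x} [CommRing B] [Algebra k B] (y : FormRing k N d →ₐ[k] B) (g : SLn N k →ₐ[k] B)
    (m : FormIdx N d) :
    mv y g (MvPolynomial.X m) = act (mat g) (fun l => y (MvPolynomial.X l)) m := by
  have h1 : HopfRep.Comod.coact (k := k) (A := SLn N k) (MvPolynomial.X m : FormRing k N d) =
      ∑ l : FormIdx N d, (MvPolynomial.X l : FormRing k N d) ⊗ₜ[k]
        (((SLn.mkHom N k).comp (Mat.toGLn N k)) (formCoeff k N d l m)) := by
    change TensorProduct.map LinearMap.id _ (formsCoactAlg k N d (MvPolynomial.X m)) = _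
    rw [formsCoactAlg_X, map_sum]
    rfl
  change Algebra.TensorProduct.lift y g (fun _ _ => Commute.all _ _)
    (HopfRep.Comod.coact (k := k) (A := SLn N k) (MvPolynomial.X m : FormRing k N d)) = _
  rw [h1, map_sum, act]
  refine Finset.sum_congr rfl fun l _ => ?_
  rw [Algebra.TensorProduct.lift_tmul, comp_toSL, aeval_formCoeff]

/-- the weights of the coordinates are the exponent vectors -/
theorem hasWts : HasWts k (fun m : FormIdx N d => (MvPolynomial.X m : FormRing k N d))
    (fun m j => (m.1 j : ℤ)) := by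
  intro B _ _ y t ht m
  rw [mv_X, mat_dg, act, Matrix.diagonal_transpose, Finset.sum_eq_single m]
  · rw [sub_diagonal_monomial, MvPolynomial.coeff_monomial, if_pos rfl, one_mul]
    congr 1
    rw [Units.coe_prod]
    refine Finset.prod_congr rfl fun j _ => ?_
    rw [zpow_natCast, Units.val_pow_eq_pow_val]
  · intro l _ hl
    rw [sub_diagonal_monomial, MvPolynomial.coeff_monomial, if_neg (fun h => hl (Subtype.ext h.symm)), mul_zero]
  · intro h; exact absurd (Finset.mem_univ m) h

theorem multinomial_ne_zero (hd : (Nat.factorial d : k) ≠ 0) (m : FormIdx N d) :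
    (m.1.multinomial : k) ≠ 0 := by
  intro h
  apply hd
  have h1 : (∏ i, (m.1 i).factorial) * m.1.multinomial = d.factorial := by
    rw [multinomial_formIdx, Nat.multinomial_spec]
    have h2 := m.2
    rw [Finsupp.degree_eq_sum] at h2
    rw [h2]
  rw [← h1, Nat.cast_mul, h, mul_zero]

/-- coordinates of the moved point vanish exactly when the coefficient of the substituted form does. -/
theorem mv_eq_zero_iff (hd : (Nat.factorial d : k) ≠ 0) (a : FormIdx N d → k) (g : SLn N k →ₐ[k] k)
    (m : FormIdx N d) :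
    mv (GLin.vecPt k (FormIdx N d) a) g (MvPolynomial.X m) = 0 ↔
      MvPolynomial.coeff m.1 (sub (mat g) (formPoly a)) = 0 := by
  rw [mv_X]
  have h1 : (fun l : FormIdx N d => GLin.vecPt k (FormIdx N d) a (MvPolynomial.X l)) = a := by
    funext l
    simp
  rw [h1, ← formPoly_act, coeff_formPoly, mul_eq_zero]
  constructor
  · intro h; exact Or.inr h
  · rintro (h | h)
    · exact absurd h (multinomial_ne_zero hd m)
    · exact h

theorem isStableVec_iff_det_one [IsAlgClosed k] (hd : (Nat.factorial d : k) ≠ 0) (a : FormIdx N d → k) :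
    GLin.IsStableVec k (SLn N k) a ↔
      ∀ (M : Matrix (Fin N) (Fin N) k), M.det = 1 → ∀ r : Fin N → ℤ, ∑ j, r j = 0 →
        (∀ m : FormIdx N d, MvPolynomial.coeff m.1 (sub M (formPoly a)) ≠ 0 → 0 ≤ ∑ j, (m.1 j : ℤ) * r j) →
          r = 0 := by
  rw [GLin.IsStableVec, isStablePt_iff (fun m j => (m.1 j : ℤ)) hasWts]
  constructor
  · intro h M hM r hr hlim
    refine h (SLn.pt N k M hM) r hr fun m hm => ?_
    rw [mv_eq_zero_iff hd, mat_pt]
    by_contra hne
    exact absurd (hlim m hne) (not_le.mpr hm)
  · intro h g r hr hlim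
    refine h (mat g) (det_mat g) r hr fun m hm => ?_
    by_contra hlt
    exact hm ((mv_eq_zero_iff hd a g m).mp (hlim m (not_le.mp hlt)))

theorem coeff_sub_smul (c : k) (M : Matrix (Fin N) (Fin N) k) (a : FormIdx N d → k) (m : FormIdx N d) :
    MvPolynomial.coeff m.1 (sub (c • M) (formPoly a)) = c ^ d * MvPolynomial.coeff m.1 (sub M (formPoly a)) := by
  have h1 : c • M = Matrix.diagonal (fun _ => c) * M := by
    rw [← Matrix.smul_one_eq_diagonal, Matrix.smul_mul, one_mul]
  have h2 : sub (Matrix.diagonal (fun _ : Fin N => c)) (formPoly a) = MvPolynomial.C (c ^ d) * formPoly a := by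
    rw [formPoly, map_sum, Finset.mul_sum]
    refine Finset.sum_congr rfl fun l _ => ?_
    rw [sub_diagonal_monomial, MvPolynomial.C_mul_monomial, mul_comm (c ^ d)]
    congr 2
    rw [Finset.prod_pow_eq_pow_sum]
    congr 1
    have := l.2
    rw [Finsupp.degree_eq_sum] at this
    exact this
  rw [h1, ← K702.Forms.sub_sub, h2, map_mul, sub_C, MvPolynomial.coeff_C_mul]

/-- The numerical criterion with arbitrary invertible matrices. -/
theorem isStableVec_iff [IsAlgClosed k] (hd : (Nat.factorial d : k) ≠ 0) (a : FormIdx N d → k) :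
    GLin.IsStableVec k (SLn N k) a ↔
      ∀ (M : Matrix (Fin N) (Fin N) k), M.det ≠ 0 → ∀ r : Fin N → ℤ, ∑ j, r j = 0 →
        (∀ m : FormIdx N d, MvPolynomial.coeff m.1 (sub M (formPoly a)) ≠ 0 → 0 ≤ ∑ j, (m.1 j : ℤ) * r j) →
          r = 0 := by
  rw [isStableVec_iff_det_one hd]
  constructor
  · intro h M hM r hr hlim
    rcases Nat.eq_zero_or_pos N with h0 | hpos
    · subst h0
      funext j; exact j.elim0
    obtain ⟨c, hc⟩ := IsAlgClosed.exists_pow_nat_eq (M.det)⁻¹ hpos
    have hc0 : c ≠ 0 := by
      rintro rfl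
      rw [zero_pow hpos.ne'] at hc
      exact inv_ne_zero hM hc.symm
    refine h (c • M) ?_ r hr fun m hm => ?_
    · rw [Matrix.det_smul, Fintype.card_fin, hc, inv_mul_cancel₀ hM]
    · apply hlim m
      intro h0
      apply hm
      rw [coeff_sub_smul, h0, mul_zero]
  · intro h M hM
    exact h M (by rw [hM]; exact one_ne_zero)

/-- invariants are constant on orbits of points with values in any algebra -/
theorem mv_invariant {B : Type x} [CommRing B] [Algebra k B] (y : FormRing k N d →ₐ[k] B)
    (g : SLn N k →ₐ[k] B) (F : FormRing k N d) (hF : F ∈ GLin.invariants k (SLn N k) (FormRing k N d)) :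
    mv y g F = y F := by
  have h1 : HopfRep.Comod.coact (k := k) (A := SLn N k) F = F ⊗ₜ[k] (1 : SLn N k) := hF
  change Algebra.TensorProduct.lift y g (fun _ _ => Commute.all _ _)
    (HopfRep.Comod.coact (k := k) (A := SLn N k) F) = _
  rw [h1, Algebra.TensorProduct.lift_tmul, map_one, mul_one]

/-- If all the monomials of `F (M x)` have positive weight for some weights of sum zero then the form is a
nullform. -/
theorem isNullform_of_pos (hd : (Nat.factorial d : k) ≠ 0) (a : FormIdx N d → k)
    (M : Matrix (Fin N) (Fin N) k) (hM : M.det = 1) (r : Fin N → ℤ) (hr : ∑ j, r j = 0)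
    (hpos : ∀ m : FormIdx N d, MvPolynomial.coeff m.1 (sub M (formPoly a)) ≠ 0 → 0 < ∑ j, (m.1 j : ℤ) * r j) :
    GLin.IsNullform k (SLn N k) a := by
  classical
  intro F hF e he hFe
  let L := k[T;T⁻¹]
  let cL : k →ₐ[k] L := Algebra.ofId k L
  let x : FormRing k N d →ₐ[k] k := GLin.vecPt k (FormIdx N d) a
  let g : SLn N k →ₐ[k] k := SLn.pt N k M hM
  let x' : FormRing k N d →ₐ[k] k := mv x g
  have hx' : ∀ m : FormIdx N d, x' (MvPolynomial.X m) ≠ 0 → 0 < ∑ j, (m.1 j : ℤ) * r j := by
    intro m hm
    apply hpos m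
    intro h0
    apply hm
    rw [mv_eq_zero_iff hd, mat_pt]
    exact h0
  let lam : SLn N k →ₐ[k] L := dg (fun j => ((tUnit (k := k) r j : Lˣ) : L)) (prod_tUnit_one r hr)
  let h : FormRing k N d →ₐ[k] Polynomial k :=
    MvPolynomial.aeval fun m => Polynomial.C (x' (MvPolynomial.X m)) *
      Polynomial.X ^ (∑ j, (m.1 j : ℤ) * r j).toNat
  have hh : (Polynomial.toLaurentAlg (R := k)).comp h = mv (cL.comp x') lam := by
    apply MvPolynomial.algHom_ext
    intro m
    rw [mv_X_eq (fun m j => (m.1 j : ℤ)) hasWts (cL.comp x') (tUnit (k := k) r) (prod_tUnit_one r hr) m,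
      prod_tUnit]
    simp only [AlgHom.comp_apply, h, MvPolynomial.aeval_X, Polynomial.toLaurentAlg_apply, map_mul,
      Polynomial.toLaurent_C, Polynomial.toLaurent_X_pow]
    by_cases hi : x' (MvPolynomial.X m) = 0
    · rw [hi]; simp
    · rw [Int.toNat_of_nonneg (hx' m hi).le]
      rfl
  have h1 : h F = Polynomial.C (x' F) := by
    apply Polynomial.toLaurent_injective
    have h2 := congrArg (fun φ => φ F) hh
    have h3 : mv (cL.comp x') lam F = cL (x' F) := mv_invariant _ _ F hF
    change Polynomial.toLaurentAlg (h F) = _ at h2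
    rw [h3] at h2
    exact h2.trans (Polynomial.toLaurent_C _).symm
  have h4 : (Polynomial.aeval (0 : k)) (h F) = 0 := by
    have h5 : (Polynomial.aeval (0 : k)).comp h = MvPolynomial.aeval (fun _ => (0 : k)) := by
      apply MvPolynomial.algHom_ext
      intro m
      simp only [AlgHom.comp_apply, h, MvPolynomial.aeval_X, map_mul, map_pow, Polynomial.aeval_X,
        Polynomial.aeval_C]
      by_cases hi : x' (MvPolynomial.X m) = 0
      · rw [hi]; simp
      · rw [zero_pow, mul_zero]
        intro h0
        have := Int.toNat_eq_zero.mp h0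
        have := hx' m hi
        omega
    have h6 : (Polynomial.aeval (0 : k)) (h F) = MvPolynomial.aeval (fun _ => (0 : k)) F :=
      congrArg (fun φ => φ F) h5
    rw [h6]
    rw [MvPolynomial.aeval_def, MvPolynomial.eval₂_eq]
    refine Finset.sum_eq_zero fun m hm => ?_
    have h7 := hFe (MvPolynomial.mem_support_iff.mp hm)
    have h8 : ∃ i ∈ m.support, m i ≠ 0 := by
      by_contra hcon
      push Not at hcon
      have : m = 0 := by
        ext i
        by_cases hi : i ∈ m.support
        · exact hcon i hi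
        · exact Finsupp.notMem_support_iff.mp hi
      rw [this] at h7
      simp at h7
      omega
    obtain ⟨i, hi, hi0⟩ := h8
    rw [Finset.prod_eq_zero hi (zero_pow hi0), mul_zero]
  rw [h1] at h4
  have h8 : x' F = 0 := by simpa using h4
  have h9 : x' F = x F := mv_invariant _ _ F hF
  rw [h9] at h8
  exact h8

end K702.FormsStab
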