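import Groth.Prelude.Def_GLin6
import Groth.Agent.InvQ.K702.Points
import Mathlib.Data.Nat.Choose.Multinomial
import Mathlib.Algebra.Order.Antidiag.Pi

/-!
The action of matrices on forms, on points: the form of the moved point is `F (M y)`.
-/

set_option autoImplicit false
universe u v x

open TensorProduct

namespace K702.Forms

open CoordGrp K702.Pt K702.SL

section Multinomial

theorem multinomial_formIdx {n d : ℕ} (m : FormIdx n d) :
    m.1.multinomial = Nat.multinomial Finset.univ (fun i => m.1 i) :=
  Finsupp.multinomial_eq_of_support_subset (Finset.subset_univ _)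

/-- the multinomial theorem over exponent vectors of degree `d` -/
theorem sum_pow_formIdx {S : Type v} [CommRing S] {n d : ℕ} (z : Fin n → S) :
    (∑ i, z i) ^ d = ∑ m : FormIdx n d, (m.1.multinomial : S) * ∏ i, z i ^ m.1 i := by
  classical
  rw [Finset.sum_pow_eq_sum_piAntidiag]
  symm
  refine Finset.sum_bij (fun (m : FormIdx n d) _ => fun i => m.1 i) ?_ ?_ ?_ ?_
  · intro m _
    rw [Finset.mem_piAntidiag]
    refine ⟨?_, fun i _ => Finset.mem_univ i⟩
    have h := m.2
    rw [Finsupp.degree_eq_sum] at h
    exact h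
  · intro m _ m' _ h
    exact Subtype.ext (Finsupp.ext fun i => congrFun h i)
  · intro f hf
    rw [Finset.mem_piAntidiag] at hf
    refine ⟨⟨Finsupp.equivFunOnFinite.symm f, ?_⟩, Finset.mem_univ _, ?_⟩
    · rw [Finsupp.degree_eq_sum]
      exact hf.1
    · rfl
  · intro m _
    rw [multinomial_formIdx]

end Multinomial

section Sub
variable {n : ℕ} {B : Type x} [CommRing B]

/-- Linear substitution `X_i ↦ Σ_j M i j X_j`: the polynomial `F` goes to `F (M X)`. -/
noncomputable def sub (M : Matrix (Fin n) (Fin n) B) : MvPolynomial (Fin n) B →ₐ[B] MvPolynomial (Fin n) B :=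
  MvPolynomial.aeval fun i => ∑ j, MvPolynomial.C (M i j) * MvPolynomial.X j

@[simp] theorem sub_X (M : Matrix (Fin n) (Fin n) B) (i : Fin n) :
    sub M (MvPolynomial.X i) = ∑ j, MvPolynomial.C (M i j) * MvPolynomial.X j := MvPolynomial.aeval_X _ _

@[simp] theorem sub_C (M : Matrix (Fin n) (Fin n) B) (c : B) :
    sub M (MvPolynomial.C c) = MvPolynomial.C c := MvPolynomial.algHom_C _ _

theorem sub_sub (M N : Matrix (Fin n) (Fin n) B) (F : MvPolynomial (Fin n) B) :
    sub M (sub N F) = sub (N * M) F := by
  have h : (sub M).comp (sub N) = sub (N * M) := by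
    apply MvPolynomial.algHom_ext
    intro i
    simp only [AlgHom.comp_apply, sub_X, map_sum, map_mul, sub_C, Matrix.mul_apply, Finset.mul_sum,
      Finset.sum_mul]
    rw [Finset.sum_comm]
    refine Finset.sum_congr rfl fun j _ => Finset.sum_congr rfl fun l _ => ?_
    ring
  exact congrArg (fun φ => φ F) h

theorem sub_one (F : MvPolynomial (Fin n) B) : sub (1 : Matrix (Fin n) (Fin n) B) F = F := by
  have h : sub (1 : Matrix (Fin n) (Fin n) B) = AlgHom.id B _ := by
    apply MvPolynomial.algHom_ext
    intro i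
    rw [sub_X, Finset.sum_eq_single i]
    · simp
    · intro j _ hj
      rw [Matrix.one_apply_ne (Ne.symm hj)]; simp
    · intro h; exact absurd (Finset.mem_univ i) h
  rw [h]; rfl

theorem eval_sub (M : Matrix (Fin n) (Fin n) B) (v : Fin n → B) (F : MvPolynomial (Fin n) B) :
    MvPolynomial.eval v (sub M F) = MvPolynomial.eval (M.mulVec v) F := by
  have h : (MvPolynomial.eval v).comp (sub M).toRingHom = MvPolynomial.eval (M.mulVec v) := by
    apply MvPolynomial.ringHom_ext
    · intro r
      simp
    · intro i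
      simp [Matrix.mulVec, dotProduct]
  exact congrArg (fun φ => φ F) h

theorem sub_monomial (M : Matrix (Fin n) (Fin n) B) (m : Fin n →₀ ℕ) (c : B) :
    sub M (MvPolynomial.monomial m c) = MvPolynomial.C c * ∏ i, (sub M (MvPolynomial.X i)) ^ m i := by
  rw [MvPolynomial.monomial_eq, map_mul, sub_C, Finsupp.prod_fintype _ _ (fun i => by simp), map_prod]
  congr 1
  exact Finset.prod_congr rfl fun i _ => by rw [map_pow]

theorem sub_diagonal_monomial (t : Fin n → B) (m : Fin n →₀ ℕ) (c : B) :
    sub (Matrix.diagonal t) (MvPolynomial.monomial m c) =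
      MvPolynomial.monomial m (c * ∏ i, t i ^ m i) := by
  have h : ∀ i, sub (Matrix.diagonal t) (MvPolynomial.X i) = MvPolynomial.C (t i) * MvPolynomial.X i := by
    intro i
    rw [sub_X, Finset.sum_eq_single i]
    · rw [Matrix.diagonal_apply_eq]
    · intro j _ hj
      rw [Matrix.diagonal_apply_ne _ (Ne.symm hj)]; simp
    · intro h; exact absurd (Finset.mem_univ i) h
  rw [sub_monomial, Finset.prod_congr rfl fun i _ => by rw [h i, mul_pow], Finset.prod_mul_distrib,
    MvPolynomial.monomial_eq (s := m) (a := c * _), Finsupp.prod_fintype _ _ (fun i => by simp), map_mul,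
    map_prod, mul_assoc]
  congr 2
  exact Finset.prod_congr rfl fun i _ => by rw [map_pow]

end Sub

section Coeff
variable {k : Type u} [CommRing k] {n : ℕ} {B : Type x} [CommRing B] [Algebra k B]

/-- `k[x] ⊗ Mat → B[x]` through a matrix over `B` -/
noncomputable def evT (M : Matrix (Fin n) (Fin n) B) :
    MvPolynomial (Fin n) k ⊗[k] Mat n k →ₐ[k] MvPolynomial (Fin n) B :=
  Algebra.TensorProduct.lift
    (MvPolynomial.mapAlgHom (Algebra.ofId k B))
    ((Algebra.ofId B (MvPolynomial (Fin n) B)).restrictScalars k |>.comp (Mat.aeval n k M))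
    (fun _ _ => Commute.all _ _)

theorem coeff_evT (M : Matrix (Fin n) (Fin n) B) (j : Fin n →₀ ℕ) (w : MvPolynomial (Fin n) k ⊗[k] Mat n k) :
    MvPolynomial.coeff j (evT M w) = Mat.aeval n k M (coeffT (k := k) j w) := by
  induction w using TensorProduct.induction_on with
  | zero => simp
  | tmul p a =>
    rw [coeffT_tmul, map_smul, evT, Algebra.TensorProduct.lift_tmul]
    have h1 : ((Algebra.ofId B (MvPolynomial (Fin n) B)).restrictScalars k |>.comp (Mat.aeval n k M)) a =
        MvPolynomial.C (Mat.aeval n k M a) := rfl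
    have h2 : (MvPolynomial.mapAlgHom (Algebra.ofId k B)) p = MvPolynomial.map (algebraMap k B) p := rfl
    rw [h1, h2, mul_comm, MvPolynomial.coeff_C_mul, MvPolynomial.coeff_map, Algebra.smul_def, mul_comm]
  | add p q hp hq => simp only [map_add, MvPolynomial.coeff_add, hp, hq]

theorem evT_std (M : Matrix (Fin n) (Fin n) B) (p : MvPolynomial (Fin n) k) :
    evT M (stdCoactAlg n k p) = sub M.transpose (MvPolynomial.map (algebraMap k B) p) := by
  have h : (evT M).comp (stdCoactAlg n k) =
      ((sub M.transpose).restrictScalars k).comp (MvPolynomial.mapAlgHom (Algebra.ofId k B)) := by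
    apply MvPolynomial.algHom_ext
    intro i
    have h2 : (MvPolynomial.mapAlgHom (Algebra.ofId k B)) (MvPolynomial.X i : MvPolynomial (Fin n) k) =
      MvPolynomial.X i := by
        change MvPolynomial.map (algebraMap k B) (MvPolynomial.X i) = _
        rw [MvPolynomial.map_X]
    rw [AlgHom.comp_apply, AlgHom.comp_apply, h2, stdCoactAlg_X, map_sum, AlgHom.restrictScalars_apply, sub_X]
    refine Finset.sum_congr rfl fun j _ => ?_
    rw [evT, Algebra.TensorProduct.lift_tmul]
    have h1 : ((Algebra.ofId B (MvPolynomial (Fin n) B)).restrictScalars k |>.comp (Mat.aeval n k M)) (Mat.X j i) =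
        MvPolynomial.C (M j i) := by
      change MvPolynomial.C (Mat.aeval n k M (Mat.X j i)) = _
      rw [Mat.aeval_X]
    have h3 : (MvPolynomial.mapAlgHom (Algebra.ofId k B)) (MvPolynomial.X j : MvPolynomial (Fin n) k) =
      MvPolynomial.X j := by
        change MvPolynomial.map (algebraMap k B) (MvPolynomial.X j) = _
        rw [MvPolynomial.map_X]
    rw [h1, h3, mul_comm, Matrix.transpose_apply]
  exact congrArg (fun φ => φ p) h

/-- the value of the matrix coefficient `c_{l m}` at a matrix over `B` -/
theorem aeval_formCoeff {d : ℕ} (M : Matrix (Fin n) (Fin n) B) (l m : FormIdx n d) :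
    Mat.aeval n k M (formCoeff k n d l m) =
      MvPolynomial.coeff l.1 (sub M.transpose (MvPolynomial.monomial m.1 (1 : B))) := by
  rw [formCoeff, ← coeff_evT, evT_std, MvPolynomial.map_monomial, map_one]

end Coeff

section Form
variable {n d : ℕ} {B : Type x} [CommRing B]

/-- the coordinates of the moved form -/
noncomputable def act (M : Matrix (Fin n) (Fin n) B) (a : FormIdx n d → B) : FormIdx n d → B := fun m =>
  ∑ l : FormIdx n d, a l * MvPolynomial.coeff l.1 (sub M.transpose (MvPolynomial.monomial m.1 (1 : B)))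

theorem coeff_prod_C_mul_X_pow {S : Type v} [CommRing S] (c : Fin n → S) (l m : Fin n →₀ ℕ) :
    MvPolynomial.coeff l (∏ j, (MvPolynomial.C (c j) * MvPolynomial.X j) ^ m j) =
      if m = l then ∏ j, c j ^ m j else 0 := by
  classical
  have : ∏ j, (MvPolynomial.C (c j) * MvPolynomial.X j) ^ m j =
      MvPolynomial.monomial m (∏ j, c j ^ m j) := by
    rw [MvPolynomial.monomial_eq, Finsupp.prod_fintype _ _ (fun i => by simp), map_prod,
      ← Finset.prod_mul_distrib]
    exact Finset.prod_congr rfl fun i _ => by rw [mul_pow, map_pow]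
  rw [this, MvPolynomial.coeff_monomial]

/-- the duality identity behind the formula for the form of the moved point -/
theorem dual_identity (M : Matrix (Fin n) (Fin n) B) (l : FormIdx n d) :
    ∑ m : FormIdx n d, MvPolynomial.monomial m.1 ((m.1.multinomial : B) *
      MvPolynomial.coeff l.1 (sub M.transpose (MvPolynomial.monomial m.1 (1 : B)))) =
    (l.1.multinomial : MvPolynomial (Fin n) B) * sub M (MvPolynomial.monomial l.1 1) := by
  classical
  -- work in `P[x]`, `P = B[y]`
  let P := MvPolynomial (Fin n) B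
  let ℓ : Fin n → MvPolynomial (Fin n) P := fun i => ∑ j, MvPolynomial.C (MvPolynomial.C (M j i)) * MvPolynomial.X j
  let Z : MvPolynomial (Fin n) P := ∑ i, MvPolynomial.C (MvPolynomial.X i : P) * ℓ i
  have hℓ : ∀ i, ℓ i = MvPolynomial.map (MvPolynomial.C : B →+* P) (sub M.transpose (MvPolynomial.X i)) := by
    intro i
    rw [sub_X, map_sum]
    refine Finset.sum_congr rfl fun j _ => ?_
    rw [map_mul, MvPolynomial.map_C, MvPolynomial.map_X, Matrix.transpose_apply]
  have hZ2 : Z = ∑ j, MvPolynomial.C (sub M (MvPolynomial.X j) : P) * MvPolynomial.X j := by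
    simp only [Z, ℓ, Finset.mul_sum]
    rw [Finset.sum_comm]
    refine Finset.sum_congr rfl fun j _ => ?_
    rw [sub_X, map_sum, Finset.sum_mul]
    refine Finset.sum_congr rfl fun i _ => ?_
    rw [map_mul]
    ring
  have e1 : MvPolynomial.coeff l.1 (Z ^ d) = ∑ m : FormIdx n d, MvPolynomial.monomial m.1
      ((m.1.multinomial : B) *
      MvPolynomial.coeff l.1 (sub M.transpose (MvPolynomial.monomial m.1 (1 : B)))) := by
    simp only [Z]
    rw [sum_pow_formIdx, MvPolynomial.coeff_sum]
    refine Finset.sum_congr rfl fun m _ => ?_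
    have h1 : ((m.1.multinomial : MvPolynomial (Fin n) P)) * ∏ i, (MvPolynomial.C (MvPolynomial.X i : P) * ℓ i) ^ m.1 i =
        MvPolynomial.C (((m.1.multinomial : B) • (MvPolynomial.monomial m.1 (1 : B)) : P)) *
          MvPolynomial.map (MvPolynomial.C : B →+* P) (sub M.transpose (MvPolynomial.monomial m.1 (1 : B))) := by
      have h2 : ∏ i, (MvPolynomial.C (MvPolynomial.X i : P) * ℓ i) ^ m.1 i =
          (∏ i, MvPolynomial.C ((MvPolynomial.X i : P) ^ m.1 i)) * ∏ i, ℓ i ^ m.1 i := by
        rw [← Finset.prod_mul_distrib]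
        exact Finset.prod_congr rfl fun i _ => by rw [mul_pow, map_pow]
      have h3 : ∏ i, ℓ i ^ m.1 i = MvPolynomial.map (MvPolynomial.C : B →+* P)
          (sub M.transpose (MvPolynomial.monomial m.1 (1 : B))) := by
        rw [sub_monomial, map_one, one_mul, map_prod]
        exact Finset.prod_congr rfl fun i _ => by rw [map_pow, hℓ]
      have h4 : (MvPolynomial.monomial m.1 (1 : B) : P) = ∏ i, (MvPolynomial.X i : P) ^ m.1 i := by
        rw [MvPolynomial.monomial_eq, map_one, one_mul, Finsupp.prod_fintype _ _ (fun i => by simp)]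
      rw [h2, h3, ← map_prod, ← h4]
      rw [MvPolynomial.smul_eq_C_mul, map_mul, map_natCast, map_natCast]
      ring
    rw [h1, MvPolynomial.coeff_C_mul, MvPolynomial.coeff_map, mul_comm, ← MvPolynomial.smul_eq_C_mul,
      smul_smul, MvPolynomial.smul_monomial, smul_eq_mul, mul_one, mul_comm]
  have e2 : MvPolynomial.coeff l.1 (Z ^ d) =
      (l.1.multinomial : MvPolynomial (Fin n) B) * sub M (MvPolynomial.monomial l.1 1) := by
    rw [hZ2, sum_pow_formIdx, MvPolynomial.coeff_sum, Finset.sum_eq_single l]
    · rw [← map_natCast (MvPolynomial.C : P →+* MvPolynomial (Fin n) P), MvPolynomial.coeff_C_mul,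
        coeff_prod_C_mul_X_pow, if_pos rfl, sub_monomial, map_one, one_mul]
    · intro m _ hm
      rw [← map_natCast (MvPolynomial.C : P →+* MvPolynomial (Fin n) P), MvPolynomial.coeff_C_mul,
        coeff_prod_C_mul_X_pow, if_neg (fun h => hm (Subtype.ext h)), mul_zero]
    · intro h; exact absurd (Finset.mem_univ l) h
  rw [← e1, e2]

/-- the form of the moved point is `F (M y)` -/
theorem formPoly_act (M : Matrix (Fin n) (Fin n) B) (a : FormIdx n d → B) :
    formPoly (act M a) = sub M (formPoly a) := by
  have h1 : sub M (formPoly a) = ∑ l : FormIdx n d, MvPolynomial.C (a l) *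
      ((l.1.multinomial : MvPolynomial (Fin n) B) * sub M (MvPolynomial.monomial l.1 1)) := by
    rw [formPoly, map_sum]
    refine Finset.sum_congr rfl fun l _ => ?_
    have : (MvPolynomial.monomial l.1 ((l.1.multinomial : B) * a l) : MvPolynomial (Fin n) B) =
        MvPolynomial.C (a l) * ((l.1.multinomial : MvPolynomial (Fin n) B) * MvPolynomial.monomial l.1 1) := by
      rw [← map_natCast (MvPolynomial.C : B →+* MvPolynomial (Fin n) B), MvPolynomial.C_mul_monomial,
        MvPolynomial.C_mul_monomial, mul_one, mul_comm]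
    rw [this, map_mul, map_mul, sub_C, map_natCast]
  rw [h1]
  have h2 : ∀ l : FormIdx n d, MvPolynomial.C (a l) *
      ((l.1.multinomial : MvPolynomial (Fin n) B) * sub M (MvPolynomial.monomial l.1 1)) =
      ∑ m : FormIdx n d, MvPolynomial.monomial m.1 ((m.1.multinomial : B) * (a l *
      MvPolynomial.coeff l.1 (sub M.transpose (MvPolynomial.monomial m.1 (1 : B))))) := by
    intro l
    rw [← dual_identity, Finset.mul_sum]
    refine Finset.sum_congr rfl fun m _ => ?_
    rw [MvPolynomial.C_mul_monomial]
    congr 1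
    ring
  rw [Finset.sum_congr rfl fun l _ => h2 l, Finset.sum_comm, formPoly]
  refine Finset.sum_congr rfl fun m _ => ?_
  rw [act, Finset.mul_sum, map_sum]

end Form

end K702.Forms
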