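import Groth.Agent.AGF.K497.PowLift
import Groth.Agent.InvQ.K701.Orbit3
import Groth.Agent.InvQ.K701.SLInv
import Groth.Agent.GIT.K687.SLForms

/-!
# Coactions on algebras as rational actions; separation of invariant closed sets for geometrically reductive groups
-/

set_option autoImplicit false
set_option linter.unusedSectionVars false
universe u v w

open TensorProduct HopfRep GLin Groth.Agent.Sga3B.RG K497.Rat

namespace K702.CoactRat

open K701.SLInv K701.Orbit Groth.Agent.Books.ComodPoints

section act

variable {k : Type u} [Field k] {A : Type u} [CommRing A] [HopfAlgebra k A]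
  {R : Type v} [CommRing R] [Algebra k R] [Comod k A R] [IsCoactAlg k A R]

variable (k A R) in
/-- The action of the group of points on a comodule algebra. -/
noncomputable def act : Pt k A →* (R →ₐ[k] R) where
  toFun g := actAlg k A R g.ofConv
  map_one' := by
    ext f
    change Comod.act k A R (1 : WithConv (A →ₐ[k] k)).ofConv f = f
    rw [Groth.Agent.Books.ComodPoints.act_one]
    rfl
  map_mul' g h := by
    ext f
    change Comod.act k A R (g * h : WithConv (A →ₐ[k] k)).ofConv f = _
    rw [Groth.Agent.Books.ComodPoints.act_mul]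
    rfl

lemma act_apply (g : Pt k A) (f : R) : act k A R g f = Comod.act k A R g.ofConv f := rfl

lemma act_eq_ev (g : Pt k A) (f : R) :
    act k A R g f = ev R g (TensorProduct.comm k R A (Comod.coact (k := k) (A := A) f)) := by
  change (Algebra.TensorProduct.rid k k R) ((Algebra.TensorProduct.map (AlgHom.id k R) g.ofConv)
    (Comod.coact (k := k) (A := A) f)) = _
  induction Comod.coact (k := k) (A := A) f using TensorProduct.induction_on with
  | zero => simp
  | add x y hx hy => rw [map_add, map_add, map_add, map_add, hx, hy]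
  | tmul x a =>
    rw [Algebra.TensorProduct.map_tmul, Algebra.TensorProduct.rid_tmul, TensorProduct.comm_tmul, ev_tmul]
    rfl

theorem isRatA_act : IsRatA (act k A R) := fun f =>
  ⟨TensorProduct.comm k R A (Comod.coact (k := k) (A := A) f), fun g => act_eq_ev g f⟩

theorem isStab_of_isSubcomod {I : Ideal R} (hI : IsSubcomod (k := k) (A := A) (I.restrictScalars k)) :
    IsStab (act k A R) (I : Set R) := by
  intro g f hf
  obtain ⟨t, ht⟩ := hI f hf
  rw [act_eq_ev, ← ht]
  clear ht
  induction t using TensorProduct.induction_on with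
  | zero => rw [map_zero, map_zero, map_zero]; exact I.zero_mem
  | add x y hx hy =>
    rw [map_add, map_add, map_add]
    exact I.add_mem hx hy
  | tmul x a =>
    rw [LinearMap.rTensor_tmul, TensorProduct.comm_tmul, ev_tmul]
    have := (I.restrictScalars k).smul_mem (g a) x.2
    exact this

variable [IsAlgClosed k] [Algebra.FiniteType k A] [IsReduced A]

theorem mem_invariants_of_forall {f : R} (h : ∀ g : Pt k A, act k A R g f = f) : f ∈ invariants k A R :=
  mem_fixedPts_of_forall (fun a ha => Groth.Agent.Books.PointsAC.eq_zero_of_forall_point k A a ha) f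
    fun g => h (WithConv.toConv g)

end act

section sep

variable {k : Type u} [Field k] [IsAlgClosed k] {A : Type u} [CommRing A] [HopfAlgebra k A]
  [Algebra.FiniteType k A] [IsReduced A]
  {R : Type u} [CommRing R] [Algebra k R] [Comod k A R] [IsCoactAlg k A R]

/-- Disjoint closed invariant sets are separated by an invariant function. -/
theorem exists_sep (hG : GeomRed k A) (I J : Ideal R) (hI : IsStab (act k A R) (I : Set R))
    (hJ : IsStab (act k A R) (J : Set R)) (hIJ : I ⊔ J = ⊤) :
    ∃ F ∈ invariants k A R, F ∈ I ∧ F - 1 ∈ J := by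
  have h1 : (1 : R) ∈ I ⊔ J := by rw [hIJ]; trivial
  obtain ⟨f, hf, f', hf', hff⟩ := Submodule.mem_sup.1 h1
  have hf1 : f - 1 ∈ J := by
    have : f - 1 = -f' := by rw [← hff]; ring
    rw [this]
    exact J.neg_mem hf'
  obtain ⟨n, hn, y, -, hy, hyJ⟩ := hG.lift (isRatA_act (k := k) (A := A) (R := R)) (I ⊓ J) (x := f) (fun g => by
    refine ⟨I.sub_mem (hI g f hf) hf, ?_⟩
    have h2 := hJ g _ hf1
    rw [map_sub, map_one] at h2
    have h3 := J.sub_mem h2 hf1
    have : act k A R g f - 1 - (f - 1) = act k A R g f - f := by ring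
    rwa [this] at h3)
  refine ⟨y, mem_invariants_of_forall hy, ?_, ?_⟩
  · have h2 := I.sub_mem (I.pow_mem_of_mem hf n hn) hyJ.1
    rwa [sub_sub_cancel] at h2
  · have h2 : f ^ n - 1 ∈ J := by
      have h3 := Ideal.mul_mem_right (∑ i ∈ Finset.range n, f ^ i) J hf1
      rwa [mul_comm, geom_sum_mul] at h3
    have h3 := J.sub_mem h2 hyJ.2
    have : f ^ n - 1 - (f ^ n - y) = y - 1 := by ring
    rwa [this] at h3

/-- The closures of the orbits of two points at which the invariants take the same values meet. -/
theorem exists_common_point [Algebra.FiniteType k R] (hG : GeomRed k A) (x y : R →ₐ[k] k)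
    (h : ∀ f ∈ invariants k A R, x f = y f) :
    ∃ z : R →ₐ[k] k, (∀ f ∈ RingHom.ker (orbitHom k A x), z f = 0) ∧
      (∀ f ∈ RingHom.ker (orbitHom k A y), z f = 0) := by
  by_cases htop : RingHom.ker (orbitHom k A x) ⊔ RingHom.ker (orbitHom k A y) = ⊤
  · obtain ⟨f, hf, hfx, hfy⟩ := exists_sep hG _ _ (isStab_of_isSubcomod (isSubcomod_ker_orbitHom x))
      (isStab_of_isSubcomod (isSubcomod_ker_orbitHom y)) htop
    have h1 : x f = 0 := ker_orbitHom_le_ker x hfx
    have h2 : y (f - 1) = 0 := ker_orbitHom_le_ker y hfy
    rw [map_sub, map_one, ← h f hf, h1, zero_sub, neg_eq_zero] at h2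
    exact absurd h2 one_ne_zero
  · obtain ⟨z, hz⟩ := K701.Basic.exists_point_of_ne_top k R _ htop
    exact ⟨z, fun f hf => hz f (Ideal.mem_sup_left hf), fun f hf => hz f (Ideal.mem_sup_right hf)⟩

/-- A closed orbit is contained in the closure of the orbit of every point with the same
invariants. -/
theorem le_ker_of_closedOrb [Algebra.FiniteType k R] (hG : GeomRed k A) (y x' : R →ₐ[k] k)
    (hy : K701.Orbit3.ClosedOrb A y) (h : ∀ f ∈ invariants k A R, x' f = y f) :
    ∀ f ∈ RingHom.ker (orbitHom k A x'), y f = 0 := by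
  obtain ⟨z, hz, hz'⟩ := exists_common_point hG x' y h
  obtain ⟨g, rfl⟩ := hy z hz'
  have h1 : RingHom.ker (orbitHom k A x') ≤ RingHom.ker (orbitHom k A (actPt k g y)) :=
    le_ker_orbitHom (isSubcomod_ker_orbitHom x') _ hz
  rw [ker_orbitHom_actPt] at h1
  exact fun f hf => ker_orbitHom_le_ker (A := A) y (h1 hf)

end sep

section Closure

variable {k : Type u} [Field k] [IsAlgClosed k] {A : Type u} [CommRing A] [HopfAlgebra k A] [Algebra.FiniteType k A]
  [IsReduced A] {ι : Type} [Fintype ι] [Comod k A (MvPolynomial ι k)] [IsCoactAlg k A (MvPolynomial ι k)]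

/-- The origin is in the closure of the orbit of a nullform. -/
theorem inOrbitClosure_of_isNullform (hG : GeomRed k A) (hlin : IsLinear k A ι) (v : ι → k)
    (hnull : IsNullform k A v) :
    InOrbitClosure k A (vecPt k ι v) (vecPt k ι (fun _ => (0 : k))) := by
  have hzero : ∀ (F : MvPolynomial ι k) (d : ℕ), 0 < d → F.IsHomogeneous d →
      vecPt k ι (fun _ => (0 : k)) F = 0 := by
    intro F d hd hF
    have h1 : vecPt k ι (fun _ => (0 : k)) F = MvPolynomial.eval (fun _ => (0 : k)) F := by
      rw [vecPt, MvPolynomial.aeval_eq_eval]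
    rw [h1]
    have h3 : MvPolynomial.eval (fun _ => (0 : k)) F = MvPolynomial.constantCoeff F := by
      have := MvPolynomial.eval_zero (σ := ι) (R := k)
      exact congrArg (fun φ => φ F) this
    rw [h3, MvPolynomial.constantCoeff_eq]
    exact hF.coeff_eq_zero (by simpa using hd.ne)
  obtain ⟨z, h1, h2⟩ := exists_common_point hG (vecPt k ι v)
    (vecPt k ι (fun _ => (0 : k))) (fun f hf => by
      rw [← MvPolynomial.sum_homogeneousComponent f, map_sum, map_sum]
      refine Finset.sum_congr rfl fun d _ => ?_
      rcases Nat.eq_zero_or_pos d with rfl | hd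
      · rw [MvPolynomial.homogeneousComponent_zero, MvPolynomial.aeval_C, MvPolynomial.aeval_C]
      · rw [hzero _ d hd (MvPolynomial.homogeneousComponent_isHomogeneous d f)]
        have h3 := hnull _ (K691.HomogInv.homogeneousComponent_mem_invariants hlin d hf) d hd
          (MvPolynomial.homogeneousComponent_isHomogeneous d f)
        rw [← MvPolynomial.aeval_eq_eval] at h3
        exact h3)
  have hz : z = vecPt k ι (fun _ => (0 : k)) := by
    apply MvPolynomial.algHom_ext
    intro i
    have h3 := h2 (MvPolynomial.X i) (by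
      rw [RingHom.mem_ker]
      change orbitHom k A _ (MvPolynomial.X i) = 0
      rw [K691.HomogInv.orbitHom_origin hlin]
      simp)
    rw [h3]
    simp
  rw [hz] at h1
  exact fun f hf => h1 f hf

end Closure

end K702.CoactRat
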