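import Mathlib.RingTheory.IntegralClosure.IntegrallyClosed
import Mathlib.RingTheory.Localization.FractionRing
import Mathlib.RingTheory.Algebraic.Integral

/-!
A subalgebra of an integrally closed domain which is closed under exact division is integrally closed.
-/

set_option autoImplicit false
universe u v

namespace K702.FixedIC

theorem isIntegrallyClosed_subalgebra_of_div {k : Type u} [CommRing k] {S : Type v} [CommRing S]
    [IsDomain S] [Algebra k S] [IsIntegrallyClosed S] (A : Subalgebra k S)
    (hdiv : ∀ a b c : S, a ∈ A → b ∈ A → b ≠ 0 → a = b * c → c ∈ A) :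
    IsIntegrallyClosed A := by
  rw [isIntegrallyClosed_iff (FractionRing A)]
  intro x hx
  let j : FractionRing A →ₐ[A] FractionRing S := IsFractionRing.liftAlgHom (R := A) (A := A)
    (K := FractionRing A) (L := FractionRing S) (g := Algebra.ofId A (FractionRing S))
    (by
      intro a b h
      have h' : algebraMap S (FractionRing S) (a : S) = algebraMap S (FractionRing S) (b : S) := h
      exact Subtype.ext (IsFractionRing.injective S (FractionRing S) h'))
  have hjx : IsIntegral S (j x) := (hx.map j).tower_top
  obtain ⟨c, hc⟩ := (IsIntegrallyClosed.isIntegral_iff (R := S) (K := FractionRing S)).mp hjx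
  obtain ⟨a, b, hb, hab⟩ := IsFractionRing.div_surjective (A := A) x
  have hb0 : (b : S) ≠ 0 := by
    intro h
    exact nonZeroDivisors.ne_zero hb (Subtype.ext h)
  have hbK : algebraMap A (FractionRing A) b ≠ 0 := by
    intro h
    exact nonZeroDivisors.ne_zero hb (IsFractionRing.injective A (FractionRing A) (by rw [h, map_zero]))
  have h1 : algebraMap A (FractionRing A) a = algebraMap A (FractionRing A) b * x := by
    rw [← hab]
    field_simp
  have hja : ∀ z : A, j (algebraMap A (FractionRing A) z) = algebraMap S (FractionRing S) (z : S) := by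
    intro z
    rw [AlgHom.commutes]
    rfl
  have h2 : algebraMap S (FractionRing S) (a : S) = algebraMap S (FractionRing S) ((b : S) * c) := by
    rw [map_mul, hc, ← hja, ← hja, ← map_mul, ← h1]
  have h3 : (a : S) = b * c := IsFractionRing.injective S (FractionRing S) h2
  refine ⟨⟨c, hdiv a b c a.2 b.2 hb0 h3⟩, ?_⟩
  have h4 : algebraMap A (FractionRing A) b * algebraMap A (FractionRing A)
      ⟨c, hdiv a b c a.2 b.2 hb0 h3⟩ = algebraMap A (FractionRing A) b * x := by
    rw [← h1, ← map_mul]
    congr 1
    exact Subtype.ext h3.symm
  exact mul_left_cancel₀ hbK h4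

end K702.FixedIC
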