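import Groth.Agent.InvQ.K702.HMCore
import Groth.Agent.S11796
import Groth.Agent.S11804

/-!
No limits implies that the orbit map is integral (for `SL_n`).
-/

set_option autoImplicit false
universe u w w'

open TensorProduct

namespace K702.HMInt

open CoordGrp K702.Pt K702.SL K702.HMCore

variable {k : Type u} [Field k] {n : ℕ} {R : Type w} [CommRing R] [Algebra k R]
  [HopfRep.Comod k (SLn n k) R] [GLin.IsCoactAlg k (SLn n k) R]

theorem mv_ofId_k (x : R →ₐ[k] k) (g : SLn n k →ₐ[k] k) :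
    g.comp (GLin.orbitHom k (SLn n k) x) = mv x g := by
  rw [comp_orbitHom]
  congr 1

theorem isIntegral_orbitHom [IsAlgClosed k] {ι : Type w'} [Finite ι] (f : ι → R) (wt : ι → Fin n → ℤ)
    (hW : HasWts k f wt) (x : R →ₐ[k] k)
    (hNL : ∀ (g : SLn n k →ₐ[k] k) (r : Fin n → ℤ), ∑ j, r j = 0 →
      (∀ i, ∑ j, wt i j * r j < 0 → mv x g (f i) = 0) → r = 0) :
    (GLin.orbitHom k (SLn n k) x).toRingHom.IsIntegral := by
  classical
  haveI := Fintype.ofFinite ι
  apply IntCrit.isIntegral_of_valuation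
  intro K _ V ψ hψ
  letI algK : Algebra k K := (ψ.comp (algebraMap k (SLn n k))).toAlgebra
  have hkV : ∀ c : k, algebraMap k K c ∈ V := by
    intro c
    have h1 := hψ (algebraMap k R c)
    have h2 : (GLin.orbitHom k (SLn n k) x).toRingHom (algebraMap k R c) = algebraMap k (SLn n k) c :=
      (GLin.orbitHom k (SLn n k) x).commutes c
    rw [h2] at h1
    exact h1
  letI algV : Algebra k V := RingHom.toAlgebra
    ((algebraMap k K).codRestrict V.toSubring hkV : k →+* V.toSubring)
  let ιV : V →ₐ[k] K := { V.subtype with commutes' := fun _ => rfl }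
  have hιV : ∀ a : V, ιV a = (a : K) := fun _ => rfl
  let ψ' : SLn n k →ₐ[k] K := { ψ with commutes' := fun _ => rfl }
  obtain ⟨A₀, B₀, d, hA, hB, hΞ⟩ := Groth.Agent.S11796.result V K n (mat ψ')
  have hmap : ∀ M : Matrix (Fin n) (Fin n) V, M.map (algebraMap V K) = M.map ιV := fun _ => rfl
  rw [hmap, hmap] at hΞ
  have hdetmap : ∀ M : Matrix (Fin n) (Fin n) V, M.det = 1 → (M.map ιV).det = 1 := by
    intro M hM
    have := (AlgHom.map_det ιV M).symm
    rw [hM, map_one] at this
    exact this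
  have hd1 : ∏ i, d i = 1 := by
    have h1 := congrArg Matrix.det hΞ
    rw [det_mat, Matrix.det_mul, Matrix.det_mul, hdetmap _ hA, hdetmap _ hB, Matrix.det_diagonal,
      one_mul, mul_one] at h1
    exact h1.symm
  have hd0 : ∀ i, d i ≠ 0 := by
    intro i hi
    have : ∏ i, d i = 0 := Finset.prod_eq_zero (Finset.mem_univ i) hi
    rw [this] at hd1
    exact zero_ne_one hd1
  let t : Fin n → Kˣ := fun i => Units.mk0 (d i) (hd0 i)
  have ht : ∏ i, (t i : K) = 1 := hd1
  -- points
  let gA : SLn n k →ₐ[k] V := SLn.pt n k A₀ hA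
  let gB : SLn n k →ₐ[k] V := SLn.pt n k B₀ hB
  have hadj : B₀.adjugate.det = 1 := by
    rw [Matrix.det_adjugate, hB, one_pow]
  let gB' : SLn n k →ₐ[k] V := SLn.pt n k B₀.adjugate hadj
  let gD : SLn n k →ₐ[k] K := dg (fun j => (t j : K)) ht
  have hψ' : ψ' = cmul (cmul (ιV.comp gA) gD) (ιV.comp gB) := by
    apply mat_injective
    rw [mat_cmul, mat_cmul, mat_comp, mat_comp, mat_dg, mat_pt, mat_pt]
    exact hΞ
  have hψB : cmul ψ' (ιV.comp gB') = cmul (ιV.comp gA) gD := by
    apply mat_injective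
    rw [hψ', mat_cmul, mat_cmul, mat_cmul, mat_comp, mat_comp, mat_comp, mat_dg, mat_pt, mat_pt, mat_pt]
    have h1 : B₀.map ιV * B₀.adjugate.map ιV = 1 := by
      have h2 : B₀ * B₀.adjugate = 1 := by rw [Matrix.mul_adjugate, hB, one_smul]
      have h3 := congrArg (fun M : Matrix (Fin n) (Fin n) V => M.map ιV) h2
      simp only [Matrix.map_mul] at h3
      rw [h3]
      exact Matrix.map_one ιV (map_zero _) (map_one _)
    rw [mul_assoc _ (B₀.map ιV), h1, mul_one]
  let xV : R →ₐ[k] V := (Algebra.ofId k V).comp x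
  let xK : R →ₐ[k] K := (Algebra.ofId k K).comp x
  have hxVK : ιV.comp xV = xK := by
    apply AlgHom.ext; intro r
    simp only [xV, xK, AlgHom.comp_apply, Algebra.ofId_apply, AlgHom.commutes]
  let z : R →ₐ[k] V :=
    { ((ψ.comp (GLin.orbitHom k (SLn n k) x).toRingHom).codRestrict V.toSubring hψ : R →+* V.toSubring)
      with
      commutes' := fun c => by
        apply Subtype.ext
        change ψ ((GLin.orbitHom k (SLn n k) x) (algebraMap k R c)) = _
        rw [AlgHom.commutes]
        rfl }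
  have hz : ιV.comp z = mv xK ψ' := by
    rw [← comp_orbitHom]
    rfl
  let y : R →ₐ[k] V := mv xV gA
  have hy : mv (ιV.comp y) gD = ιV.comp (mv z gB') := by
    simp only [y]
    rw [comp_mv, comp_mv, hz, hxVK, mv_mv, mv_mv, hψB]
  -- valuation
  let v := V.valuation
  have hle : ∀ i, v (y (f i) : K) * v ((∏ j, t j ^ wt i j : Kˣ) : K) ≤ 1 := by
    intro i
    rw [← map_mul]
    have h1 := hW K (ιV.comp y) t ht i
    have h2 : (mv (ιV.comp y) gD) (f i) ∈ V := by
      rw [hy]
      exact (mv z gB' (f i)).2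
    have h3 : (y (f i) : K) * ((∏ j, t j ^ wt i j : Kˣ) : K) ∈ V := by
      rw [← hιV]
      have : ιV (y (f i)) = (ιV.comp y) (f i) := rfl
      rw [this, ← h1]
      exact h2
    exact (V.valuation_le_one_iff _).mpr h3
  let w : Fin n → (V.ValueGroup)ˣ := fun i => Units.map (v : K →* V.ValueGroup) (t i)
  have hw : ∀ a : Fin n → ℤ, v ((∏ j, t j ^ a j : Kˣ) : K) = ((∏ j, w j ^ a j : (V.ValueGroup)ˣ) : V.ValueGroup) := by
    intro a
    have h1 : Units.map (v : K →* V.ValueGroup) (∏ j, t j ^ a j) = ∏ j, w j ^ a j := by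
      rw [map_prod]
      refine Finset.prod_congr rfl fun j _ => ?_
      rw [map_zpow]
    rw [← h1]
    rfl
  let χ : Fin n → Additive (V.ValueGroup)ˣ := fun i => Additive.ofMul (w i)⁻¹
  have hχ : ∀ a : Fin n → ℤ, ∑ i, a i • χ i = Additive.ofMul ((∏ j, w j ^ a j)⁻¹) := by
    intro a
    rw [← Finset.prod_inv_distrib, ofMul_prod]
    refine Finset.sum_congr rfl fun j _ => ?_
    rw [← inv_zpow, ofMul_zpow]
  let Φ : Finset (Fin n → ℤ) := (Finset.univ.image wt) ∪
    (insert (fun _ => 1) (Finset.univ.image (fun j => Pi.single j (1 : ℤ))))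
  obtain ⟨r, hr⟩ := Groth.Agent.S11804.result (Additive (V.ValueGroup)ˣ) n χ Φ
  have hr1 : ∑ j, r j = 0 := by
    have h1 := (hr (fun _ => 1) (by simp [Φ])).2
    have h2 : ∑ i, ((fun _ => 1 : Fin n → ℤ) i) • χ i = 0 := by
      rw [hχ]
      have h3 : ∏ j, w j ^ ((fun _ => 1 : Fin n → ℤ) j) = 1 := by
        apply Units.ext
        rw [← hw]
        have h4 : ((∏ j, t j ^ ((fun _ => 1 : Fin n → ℤ) j) : Kˣ) : K) = 1 := by
          simp only [zpow_one]
          rw [Units.coe_prod]
          exact hd1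
        rw [h4, map_one, Units.val_one]
      rw [h3, inv_one]
      rfl
    have h3 := h1.mp h2
    simpa using h3
  have hneg : ∀ i, ∑ j, wt i j * r j < 0 → v (y (f i) : K) < 1 := by
    intro i hi
    have h1 := hr (wt i) (by simp [Φ])
    have h2 : ∑ j, wt i j • χ j < 0 := by
      rcases lt_trichotomy (∑ j, wt i j • χ j) 0 with h | h | h
      · exact h
      · exact absurd (h1.2.mp h) hi.ne
      · exact absurd (h1.1.mp h) (not_lt.mpr hi.le)
    rw [hχ] at h2
    have h3 : (∏ j, w j ^ wt i j)⁻¹ < 1 := h2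
    have h4 : 1 < ∏ j, w j ^ wt i j := by
      rwa [inv_lt_one'] at h3
    have h5 := hle i
    rw [hw] at h5
    by_contra hcon
    have h6 : 1 ≤ v (y (f i) : K) := not_lt.mp hcon
    have h7 : (1 : V.ValueGroup) < ((∏ j, w j ^ wt i j : (V.ValueGroup)ˣ) : V.ValueGroup) := by
      exact_mod_cast h4
    have h8 : ((∏ j, w j ^ wt i j : (V.ValueGroup)ˣ) : V.ValueGroup) ≤
        v (y (f i) : K) * ((∏ j, w j ^ wt i j : (V.ValueGroup)ˣ) : V.ValueGroup) := by
      calc ((∏ j, w j ^ wt i j : (V.ValueGroup)ˣ) : V.ValueGroup) = 1 * _ := (one_mul _).symm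
        _ ≤ _ := mul_le_mul_left h6 _
    exact absurd (h7.trans_le (h8.trans h5)) (lt_irrefl _)
  -- residue field
  let κ := IsLocalRing.ResidueField V
  letI algκ : Algebra k κ := ((algebraMap V κ).comp (algebraMap k V)).toAlgebra
  let res : V →ₐ[k] κ := { algebraMap V κ with commutes' := fun _ => rfl }
  have hNull : ∃ g : SLn n k →ₐ[k] k, ∀ i, ∑ j, wt i j * r j < 0 → mv x g (f i) = 0 := by
    haveI := finiteType_SLn k n
    obtain ⟨g, hg⟩ := exists_pt_of_pt (res.comp gA)
      (s := (fun i => GLin.orbitHom k (SLn n k) x (f i)) '' {i | ∑ j, wt i j * r j < 0}) (by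
        rintro _ ⟨i, hi, rfl⟩
        have h1 : (res.comp gA) (GLin.orbitHom k (SLn n k) x (f i)) = res (y (f i)) := by
          have h2 : (res.comp gA).comp (GLin.orbitHom k (SLn n k) x) = res.comp y := by
            rw [comp_orbitHom]
            simp only [y]
            rw [comp_mv]
            congr 1
          exact congrArg (fun F => F (f i)) h2
        rw [h1]
        have h3 : y (f i) ∈ IsLocalRing.maximalIdeal V :=
          (V.valuation_lt_one_iff (y (f i))).mpr (hneg i hi)
        exact (IsLocalRing.residue_eq_zero_iff _).mpr h3)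
    refine ⟨g, fun i hi => ?_⟩
    rw [← mv_ofId_k]
    exact hg _ ⟨i, hi, rfl⟩
  obtain ⟨g, hg⟩ := hNull
  have hr0 : r = 0 := hNL g r hr1 hg
  -- so all `d j` are units of `V`
  have hdV : ∀ j, d j ∈ V := by
    intro j
    have h1 := (hr (Pi.single j 1) (by simp [Φ])).2
    have h2 : ∑ i, (Pi.single j (1 : ℤ) : Fin n → ℤ) i * r i = 0 := by
      rw [hr0]; simp
    have h3 := h1.mpr h2
    rw [hχ] at h3
    have h4 : (∏ i, w i ^ (Pi.single j (1 : ℤ) : Fin n → ℤ) i)⁻¹ = 1 := h3
    rw [inv_eq_one] at h4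
    have h5 : ∏ i, w i ^ (Pi.single j (1 : ℤ) : Fin n → ℤ) i = w j := by
      rw [Finset.prod_eq_single j]
      · simp
      · intro i _ hij
        rw [Pi.single_eq_of_ne hij, zpow_zero]
      · intro h; exact absurd (Finset.mem_univ j) h
    rw [h5] at h4
    have h6 : v (d j) = 1 := by
      have := congrArg (fun q : (V.ValueGroup)ˣ => (q : V.ValueGroup)) h4
      exact this
    exact (V.valuation_le_one_iff _).mp h6.le
  let d' : Fin n → V := fun j => ⟨d j, hdV j⟩
  have hd' : ∏ i, d' i = 1 := by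
    apply Subtype.ext
    have : ((∏ i, d' i : V) : K) = ∏ i, d i := by
      change V.subtype (∏ i, d' i) = _
      rw [map_prod]
      rfl
    rw [this, hd1]
    rfl
  let gΞ : SLn n k →ₐ[k] V := cmul (cmul gA (dg d' hd')) gB
  have hfin : ψ' = ιV.comp gΞ := by
    rw [hψ', comp_cmul, comp_cmul]
    congr 2
    apply mat_injective
    rw [mat_comp, mat_dg, mat_dg]
    ext i j
    simp only [Matrix.map_apply, Matrix.diagonal_apply]
    split_ifs <;> simp [hιV, t, d']
  intro a
  have : ψ a = ιV (gΞ a) := congrArg (fun F : SLn n k →ₐ[k] K => F a) hfin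
  rw [this]
  exact (gΞ a).2

end K702.HMInt
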