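import Mathlib.LinearAlgebra.Semisimple
import Mathlib.LinearAlgebra.Eigenspace.Semisimple
import Mathlib.LinearAlgebra.Eigenspace.Triangularizable
import Mathlib.LinearAlgebra.Matrix.NonsingularInverse
import Mathlib.LinearAlgebra.Matrix.Charpoly.Basic
import Mathlib.LinearAlgebra.Matrix.Basis
import Mathlib.LinearAlgebra.Basis.VectorSpace
import Mathlib.LinearAlgebra.Projection
import Mathlib.Algebra.MvPolynomial.CommRing
import Mathlib.Algebra.MvPolynomial.Funext
import Mathlib.FieldTheory.IsAlgClosed.Basic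
import Mathlib.Logic.Equiv.Fin.Basic

/-!
Zariski closures of conjugation orbits of matrices.
-/

set_option autoImplicit false
universe u

namespace K702.MatClosure

open Module

section Proj
variable {k : Type u} [Field k] {V : Type u} [AddCommGroup V] [Module k V]

/-- an invariant subspace of a semisimple endomorphism is the image of an idempotent commuting with it -/
theorem exists_proj {S : Module.End k V} (hS : S.IsSemisimple) (p : Submodule k V)
    (hp : ∀ x ∈ p, S x ∈ p) :
    ∃ g : Module.End k V, (∀ x, g x ∈ p) ∧ (∀ x ∈ p, g x = x) ∧ S * g = g * S := by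
  obtain ⟨q, hq, hpq⟩ := (Module.End.isSemisimple_iff.mp hS) p (Module.End.mem_invtSubmodule _ |>.mpr hp)
  have hq' : ∀ x ∈ q, S x ∈ q := (Module.End.mem_invtSubmodule _).mp hq
  let g : Module.End k V := p.subtype ∘ₗ Submodule.projectionOnto p q hpq
  have g1 : ∀ x, g x ∈ p := fun x => (Submodule.projectionOnto p q hpq x).2
  have g2 : ∀ x ∈ p, g x = x := fun x hx => by
    have := Submodule.projectionOnto_apply_left hpq ⟨x, hx⟩
    simp only [g, LinearMap.comp_apply, Submodule.subtype_apply]
    rw [this]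
  have g3 : ∀ x ∈ q, g x = 0 := fun x hx => by
    have := (Submodule.projectionOnto_apply_eq_zero_iff hpq).mpr hx
    simp only [g, LinearMap.comp_apply, Submodule.subtype_apply]
    rw [this]; rfl
  refine ⟨g, g1, g2, ?_⟩
  apply LinearMap.ext
  intro x
  obtain ⟨y, hy, z, hz, rfl⟩ := Submodule.mem_sup.mp (show x ∈ p ⊔ q by rw [hpq.sup_eq_top]; trivial)
  simp only [Module.End.mul_apply, map_add]
  rw [g2 y hy, g3 z hz, g2 _ (hp y hy), g3 _ (hq' z hz), map_zero]

/-- The degeneration: `S + N` is conjugate to `S + ∑ t^(m+1) N_m` for every `t ≠ 0`. -/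
theorem exists_family {S N : Module.End k V} (hS : S.IsSemisimple) (hN : IsNilpotent N)
    (hSN : Commute S N) :
    ∃ (r : ℕ) (c : ℕ → Module.End k V), ∀ t : k, t ≠ 0 →
      ∃ D D' : Module.End k V, D * D' = 1 ∧ D' * D = 1 ∧
        D * (S + N) * D' = S + ∑ m ∈ Finset.range r, t ^ (m + 1) • c m := by
  obtain ⟨n, hn⟩ := hN
  -- K i = ker N^i
  have hK : ∀ i : ℕ, ∀ x ∈ LinearMap.ker (N ^ i), S x ∈ LinearMap.ker (N ^ i) := by
    intro i x hx
    rw [LinearMap.mem_ker] at hx ⊢
    have : (N ^ i) (S x) = S ((N ^ i) x) := by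
      have h := (hSN.pow_right i).eq
      exact (congrArg (fun f : Module.End k V => f x) h).symm
    rw [this, hx, map_zero]
  choose g g1 g2 g3 using fun i : ℕ => exists_proj hS (LinearMap.ker (N ^ i)) (hK i)
  -- e i = g i * g (i+1) * ... * g (n-1), defined by downward recursion
  let E : ℕ → Module.End k V := fun j => Nat.rec (motive := fun _ => Module.End k V) 1
    (fun j e => g (n - (j + 1)) * e) j
  have hE0 : E 0 = 1 := rfl
  have hE1 : ∀ j, E (j + 1) = g (n - (j + 1)) * E j := fun j => rfl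
  let e : ℕ → Module.End k V := fun i => E (n - i)
  have hen : e n = 1 := by simp [e, hE0]
  have hes : ∀ i, i < n → e i = g i * e (i + 1) := by
    intro i hi
    have h1 : n - i = (n - (i + 1)) + 1 := by omega
    have h2 : n - (n - (i + 1) + 1) = i := by omega
    simp only [e]
    rw [h1, hE1, h2]
  have hker : ∀ i j : ℕ, i ≤ j → ∀ x ∈ LinearMap.ker (N ^ i), x ∈ LinearMap.ker (N ^ j) := by
    intro i j hij x hx
    rw [LinearMap.mem_ker] at hx ⊢
    obtain ⟨l, rfl⟩ := Nat.exists_eq_add_of_le hij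
    rw [add_comm, pow_add, Module.End.mul_apply, hx, map_zero]
  -- properties of e by downward induction: for i ≤ n
  have hprop : ∀ j : ℕ, j ≤ n → (∀ x ∈ LinearMap.ker (N ^ (n - j)), e (n - j) x = x) ∧
      (∀ x, e (n - j) x ∈ LinearMap.ker (N ^ (n - j))) ∧ S * e (n - j) = e (n - j) * S := by
    intro j
    induction j with
    | zero =>
      intro _
      rw [Nat.sub_zero, hen]
      refine ⟨fun x _ => rfl, fun x => ?_, by rw [mul_one, one_mul]⟩
      rw [LinearMap.mem_ker, hn]; rfl
    | succ j ih =>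
      intro hj
      obtain ⟨ih1, ih2, ih3⟩ := ih (by omega)
      have h1 : n - (j + 1) + 1 = n - j := by omega
      have h2 := hes (n - (j + 1)) (by omega)
      rw [h1] at h2
      rw [h2]
      refine ⟨fun x hx => ?_, fun x => ?_, ?_⟩
      · rw [Module.End.mul_apply, ih1 x (hker _ _ (by omega) x hx), g2 _ x hx]
      · rw [Module.End.mul_apply]
        exact g1 _ _
      · rw [← mul_assoc, g3, mul_assoc, ih3, mul_assoc]
  have he1 : ∀ i ≤ n, ∀ x ∈ LinearMap.ker (N ^ i), e i x = x := by
    intro i hi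
    have := (hprop (n - i) (by omega)).1
    rwa [Nat.sub_sub_self hi] at this
  have he2 : ∀ i ≤ n, ∀ x, e i x ∈ LinearMap.ker (N ^ i) := by
    intro i hi
    have := (hprop (n - i) (by omega)).2.1
    rwa [Nat.sub_sub_self hi] at this
  have he3 : ∀ i ≤ n, S * e i = e i * S := by
    intro i hi
    have := (hprop (n - i) (by omega)).2.2
    rwa [Nat.sub_sub_self hi] at this
  -- e i * e j = e i for i ≤ j, and e j * e i = e i
  have heji : ∀ i j, i ≤ j → j ≤ n → e j * e i = e i := by
    intro i j hij hj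
    apply LinearMap.ext; intro x
    exact he1 j hj _ (hker i j hij _ (he2 i (hij.trans hj) x))
  have heij : ∀ j ≤ n, ∀ d ≤ j, e (j - d) * e j = e (j - d) := by
    intro j hj d
    induction d with
    | zero => intro _; rw [Nat.sub_zero]; exact heji j j le_rfl hj
    | succ d ih =>
      intro hd
      have h1 := hes (j - (d + 1)) (by omega)
      have h2 : j - (d + 1) + 1 = j - d := by omega
      rw [h2] at h1
      rw [h1, mul_assoc, ih (by omega)]
  have heij' : ∀ i j, i ≤ j → j ≤ n → e i * e j = e i := by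
    intro i j hij hj
    have := heij j hj (j - i) (by omega)
    rwa [Nat.sub_sub_self hij] at this
  -- e 0 = 0
  have he0 : e 0 = 0 := by
    apply LinearMap.ext; intro x
    have := he2 0 (Nat.zero_le n) x
    rw [LinearMap.mem_ker, pow_zero] at this
    exact this
  -- projections p i = e (i+1) - e i, i < n
  let p : ℕ → Module.End k V := fun i => e (i + 1) - e i
  have hpsum : ∑ i ∈ Finset.range n, p i = 1 := by
    rw [Finset.sum_range_sub, hen, he0, sub_zero]
  have hpp : ∀ i j, i < n → j < n → p i * p j = if i = j then p i else 0 := by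
    intro i j hi hj
    simp only [p, mul_sub, sub_mul]
    rcases lt_trichotomy i j with h | h | h
    · rw [if_neg h.ne, heij' (i + 1) (j + 1) (by omega) hj, heij' i (j + 1) (by omega) hj,
        heij' (i + 1) j (by omega) (by omega), heij' i j (by omega) (by omega)]
      abel
    · subst h
      rw [if_pos rfl, heij' (i + 1) (i + 1) le_rfl hi, heij' i (i + 1) (by omega) hi,
        heji i (i + 1) (by omega) hi, heij' i i le_rfl (by omega)]
      abel
    · rw [if_neg h.ne', heji (j + 1) (i + 1) (by omega) hi, heji (j + 1) i (by omega) (by omega),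
        heji j (i + 1) (by omega) hi, heji j i (by omega) (by omega)]
      abel
  have hpS : ∀ i, i < n → S * p i = p i * S := by
    intro i hi
    simp only [p, mul_sub, sub_mul]
    rw [he3 (i + 1) hi, he3 i (by omega)]
  -- p j * N * p i = 0 unless j < i
  have hpN : ∀ i j, i < n → j < n → i ≤ j → p j * N * p i = 0 := by
    intro i j hi hj hij
    apply LinearMap.ext; intro x
    simp only [Module.End.mul_apply, LinearMap.zero_apply]
    have h1 : p i x ∈ LinearMap.ker (N ^ (i + 1)) := by
      simp only [p, LinearMap.sub_apply]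
      exact Submodule.sub_mem _ (he2 (i + 1) hi x) (hker i (i + 1) (by omega) _ (he2 i (by omega) x))
    have h2 : N (p i x) ∈ LinearMap.ker (N ^ i) := by
      rw [LinearMap.mem_ker] at h1 ⊢
      rwa [pow_succ, Module.End.mul_apply] at h1
    have h3 : e (j + 1) (N (p i x)) = N (p i x) :=
      he1 (j + 1) hj _ (hker i (j + 1) (by omega) _ h2)
    have h4 : e j (N (p i x)) = N (p i x) := he1 j (by omega) _ (hker i j hij _ h2)
    change e (j + 1) (N (p i x)) - e j (N (p i x)) = 0
    rw [h3, h4, sub_self]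
  -- c m = ∑_{j < n, j + m + 1 < n} p j * N * p (j + m + 1)
  let c : ℕ → Module.End k V := fun m => ∑ j ∈ Finset.range (n - (m + 1)), p j * N * p (j + (m + 1))
  refine ⟨n, c, fun t ht => ?_⟩
  let D : Module.End k V := ∑ i ∈ Finset.range n, (t⁻¹) ^ i • p i
  let D' : Module.End k V := ∑ i ∈ Finset.range n, t ^ i • p i
  have hti : ∀ i : ℕ, (t⁻¹) ^ i * t ^ i = 1 := fun i => by
    rw [← mul_pow, inv_mul_cancel₀ ht, one_pow]
  have hDmul : ∀ (a b : ℕ → k), (∑ i ∈ Finset.range n, a i • p i) * (∑ i ∈ Finset.range n, b i • p i) =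
      ∑ i ∈ Finset.range n, (a i * b i) • p i := by
    intro a b
    rw [Finset.sum_mul]
    refine Finset.sum_congr rfl fun i hi => ?_
    rw [Finset.mul_sum, Finset.sum_eq_single i]
    · rw [smul_mul_smul_comm, hpp i i (Finset.mem_range.mp hi) (Finset.mem_range.mp hi), if_pos rfl]
    · intro j hj hji
      rw [smul_mul_smul_comm, hpp i j (Finset.mem_range.mp hi) (Finset.mem_range.mp hj),
        if_neg (Ne.symm hji), smul_zero]
    · intro h; exact absurd hi h
  have hDD' : D * D' = 1 := by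
    simp only [D, D']
    rw [hDmul]
    simp only [hti, one_smul]
    exact hpsum
  have hD'D : D' * D = 1 := by
    simp only [D, D']
    rw [hDmul]
    have : ∀ i : ℕ, t ^ i * (t⁻¹) ^ i = 1 := fun i => by rw [mul_comm]; exact hti i
    simp only [this, one_smul]
    exact hpsum
  have hDS : D * S = S * D := by
    simp only [D, Finset.sum_mul, Finset.mul_sum]
    refine Finset.sum_congr rfl fun i hi => ?_
    rw [smul_mul_assoc, mul_smul_comm, hpS i (Finset.mem_range.mp hi)]
  refine ⟨D, D', hDD', hD'D, ?_⟩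
  rw [mul_add, add_mul, hDS, mul_assoc, hDD', mul_one]
  congr 1
  -- D * N * D' = ∑_{j,i} t^(i-j) p j N p i
  have h1 : D * N * D' = ∑ j ∈ Finset.range n, ∑ i ∈ Finset.range n,
      ((t⁻¹) ^ j * t ^ i) • (p j * N * p i) := by
    simp only [D, D', Finset.sum_mul, Finset.mul_sum]
    rw [Finset.sum_comm]
    refine Finset.sum_congr rfl fun j _ => Finset.sum_congr rfl fun i _ => ?_
    rw [smul_mul_assoc, smul_mul_assoc, mul_smul_comm, smul_smul]
  rw [h1]
  have h2 : ∀ m ∈ Finset.range n, t ^ (m + 1) • c m =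
      ∑ j ∈ Finset.range n, if j + (m + 1) < n then t ^ (m + 1) • (p j * N * p (j + (m + 1))) else 0 := by
    intro m _
    simp only [c, Finset.smul_sum]
    rw [← Finset.sum_filter]
    refine Finset.sum_congr ?_ fun _ _ => rfl
    ext j
    simp only [Finset.mem_range, Finset.mem_filter]
    omega
  rw [Finset.sum_congr rfl h2]
  conv_rhs => rw [Finset.sum_comm]
  refine Finset.sum_congr rfl fun j hj => ?_
  have hj' := Finset.mem_range.mp hj
  rw [← Finset.sum_filter]
  -- reindex i = j + m + 1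
  have h3 : ∑ i ∈ Finset.range n, ((t⁻¹) ^ j * t ^ i) • (p j * N * p i) =
      ∑ i ∈ (Finset.range n).filter (fun i => j < i), ((t⁻¹) ^ j * t ^ i) • (p j * N * p i) := by
    rw [Finset.sum_filter]
    refine Finset.sum_congr rfl fun i hi => ?_
    split_ifs with h
    · rfl
    · rw [hpN i j (Finset.mem_range.mp hi) hj' (by omega), smul_zero]
  rw [h3]
  refine Finset.sum_bij' (fun i _ => i - (j + 1)) (fun m _ => j + (m + 1)) ?_ ?_ ?_ ?_ ?_
  · intro i hi
    simp only [Finset.mem_filter, Finset.mem_range] at hi ⊢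
    omega
  · intro m hm
    simp only [Finset.mem_filter, Finset.mem_range] at hm ⊢
    omega
  · intro i hi
    simp only [Finset.mem_filter, Finset.mem_range] at hi
    omega
  · intro m hm
    omega
  · intro i hi
    simp only [Finset.mem_filter, Finset.mem_range] at hi
    have h4 : j + (i - (j + 1) + 1) = i := by omega
    rw [h4]
    congr 1
    have h5 : t ^ i = t ^ j * t ^ (i - (j + 1) + 1) := by
      rw [← pow_add]; congr 1; omega
    rw [h5, ← mul_assoc, hti, one_mul]

end Proj

section Mat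
variable {k : Type u} [Field k] {n : ℕ}

open Matrix

/-- the orbit of `B` under conjugation is contained in the zero set of `F` -/
def VanOrb (B : Matrix (Fin n) (Fin n) k) (F : MvPolynomial (Fin n × Fin n) k) : Prop :=
  ∀ A : Matrix (Fin n) (Fin n) k, IsUnit A.det →
    MvPolynomial.eval (fun p => (A * B * A⁻¹) p.1 p.2) F = 0

theorem eval_semisimple_eq_zero [Infinite k] (B S N : Matrix (Fin n) (Fin n) k)
    (hS : Module.End.IsSemisimple (Matrix.toLin' S)) (hN : IsNilpotent N) (hSN : Commute S N)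
    (hB : B = S + N) (F : MvPolynomial (Fin n × Fin n) k) (hF : VanOrb B F) :
    MvPolynomial.eval (fun p => S p.1 p.2) F = 0 := by
  have hN' : IsNilpotent (Matrix.toLin' N) := by
    have := hN.map (Matrix.toLinAlgEquiv' (R := k) (n := Fin n)).toAlgHom
    exact this
  have hSN' : Commute (Matrix.toLin' S) (Matrix.toLin' N) := by
    have := hSN.map (Matrix.toLinAlgEquiv' (R := k) (n := Fin n)).toAlgHom
    exact this
  obtain ⟨r, c, hc⟩ := exists_family hS hN' hSN'
  let e := (Matrix.toLinAlgEquiv' (R := k) (n := Fin n)).symm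
  have he : ∀ M : Matrix (Fin n) (Fin n) k, e (Matrix.toLin' M) = M := fun M =>
    (Matrix.toLinAlgEquiv' (R := k) (n := Fin n)).symm_apply_apply M
  -- the polynomial family
  let q : Polynomial k := MvPolynomial.aeval (fun p : Fin n × Fin n => Polynomial.C (S p.1 p.2) +
    ∑ m ∈ Finset.range r, Polynomial.X ^ (m + 1) * Polynomial.C ((e (c m)) p.1 p.2)) F
  have hq : ∀ t : k, q.eval t = MvPolynomial.eval (fun p => (S + ∑ m ∈ Finset.range r,
      t ^ (m + 1) • e (c m)) p.1 p.2) F := by
    intro t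
    change Polynomial.evalRingHom t (MvPolynomial.aeval _ F) = _
    rw [MvPolynomial.aeval_def, MvPolynomial.hom_eval₂]
    rw [MvPolynomial.eval, MvPolynomial.coe_eval₂Hom]
    congr 1
    · ext x
      simp
    · funext p
      simp only [Polynomial.coe_evalRingHom, Polynomial.eval_add, Polynomial.eval_C,
        Polynomial.eval_finsetSum, Polynomial.eval_mul, Polynomial.eval_pow, Polynomial.eval_X,
        Matrix.add_apply, Matrix.sum_apply, Matrix.smul_apply, smul_eq_mul]
  have hq0 : ∀ t : k, t ≠ 0 → q.eval t = 0 := by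
    intro t ht
    obtain ⟨D, D', h1, h2, h3⟩ := hc t ht
    rw [hq]
    have hA1 : e D * e D' = 1 := by rw [← map_mul, h1, map_one]
    have hA2 : e D' * e D = 1 := by rw [← map_mul, h2, map_one]
    have hdet : IsUnit (e D).det := by
      rw [← Matrix.isUnit_iff_isUnit_det]
      exact ⟨⟨e D, e D', hA1, hA2⟩, rfl⟩
    have hinv : (e D)⁻¹ = e D' := Matrix.inv_eq_right_inv hA1
    have h4 : e D * B * (e D)⁻¹ = S + ∑ m ∈ Finset.range r, t ^ (m + 1) • e (c m) := by
      have h5 := congrArg e h3
      rw [map_mul, map_mul, map_add, map_add, he, he, map_sum] at h5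
      rw [hinv, hB, h5]
      congr 1
    rw [← h4]
    exact hF (e D) hdet
  have hq00 : q = 0 := by
    have h1 : (Polynomial.X * q) = 0 := by
      apply Polynomial.funext
      intro t
      rw [Polynomial.eval_mul, Polynomial.eval_X, Polynomial.eval_zero]
      by_cases ht : t = 0
      · rw [ht, zero_mul]
      · rw [hq0 t ht, mul_zero]
    exact (mul_eq_zero.mp h1).resolve_left Polynomial.X_ne_zero
  have h0 := hq 0
  rw [hq00, Polynomial.eval_zero] at h0
  rw [h0]
  congr 1
  simp

/-- a diagonalizable matrix -/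
theorem exists_diagonal (S : Matrix (Fin n) (Fin n) k)
    (h : (⨆ μ : k, Module.End.eigenspace (Matrix.toLin' S) μ) = ⊤) :
    ∃ (P : Matrix (Fin n) (Fin n) k) (d : Fin n → k), IsUnit P.det ∧ S = P * Matrix.diagonal d * P⁻¹ := by
  let s : Set (Fin n → k) := ⋃ μ : k, (Module.End.eigenspace (Matrix.toLin' S) μ : Set (Fin n → k))
  have hs : ⊤ ≤ Submodule.span k s := by
    rw [← h]
    apply iSup_le
    intro μ x hx
    exact Submodule.subset_span (Set.mem_iUnion.mpr ⟨μ, hx⟩)
  let b₀ := Module.Basis.ofSpan hs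
  haveI : Fintype ((linearIndepOn_empty k (id : (Fin n → k) → (Fin n → k))).extend (Set.empty_subset s)) :=
    FiniteDimensional.fintypeBasisIndex b₀
  have hcard : Fintype.card ((linearIndepOn_empty k (id : (Fin n → k) → (Fin n → k))).extend
      (Set.empty_subset s)) = n := by
    rw [← Module.finrank_eq_card_basis b₀, Module.finrank_fin_fun]
  let b : Module.Basis (Fin n) k (Fin n → k) := b₀.reindex (Fintype.equivFinOfCardEq hcard)
  have hb : ∀ i, ∃ μ : k, Matrix.toLin' S (b i) = μ • b i := by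
    intro i
    have h1 : b i ∈ s := by
      apply Module.Basis.ofSpan_subset hs
      rw [Module.Basis.reindex_apply]
      exact Set.mem_range_self _
    obtain ⟨μ, hμ⟩ := Set.mem_iUnion.mp h1
    exact ⟨μ, Module.End.mem_eigenspace_iff.mp hμ⟩
  choose d hd using hb
  let P : Matrix (Fin n) (Fin n) k := Matrix.of fun i j => b j i
  have hP : P = (Pi.basisFun k (Fin n)).toMatrix b := by
    ext i j
    simp [P, Module.Basis.toMatrix_apply]
  have hPu : IsUnit P.det := by
    rw [hP]
    haveI := (Pi.basisFun k (Fin n)).invertibleToMatrix b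
    exact Matrix.isUnit_det_of_invertible _
  refine ⟨P, d, hPu, ?_⟩
  have hSP : S * P = P * Matrix.diagonal d := by
    ext i j
    rw [Matrix.mul_diagonal]
    have := congrFun (hd j) i
    rw [Matrix.toLin'_apply] at this
    simp only [Pi.smul_apply, smul_eq_mul] at this
    rw [mul_comm] at this
    rw [Matrix.mul_apply]
    exact this
  rw [← hSP, mul_assoc, Matrix.mul_nonsing_inv _ hPu, mul_one]

theorem exists_perm_of_prod_eq {d₁ d₂ : Fin n → k}
    (h : ∏ i, (Polynomial.X - Polynomial.C (d₁ i)) = ∏ i, (Polynomial.X - Polynomial.C (d₂ i))) :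
    ∃ σ : Equiv.Perm (Fin n), ∀ i, d₂ (σ i) = d₁ i := by
  classical
  have hm : (Finset.univ : Finset (Fin n)).val.map d₁ = (Finset.univ : Finset (Fin n)).val.map d₂ := by
    have h1 := congrArg Polynomial.roots h
    have h2 : ∀ d : Fin n → k, (∏ i, (Polynomial.X - Polynomial.C (d i))).roots =
        (Finset.univ : Finset (Fin n)).val.map d := by
      intro d
      have := Polynomial.roots_multiset_prod_X_sub_C ((Finset.univ : Finset (Fin n)).val.map d)
      rw [Multiset.map_map] at this
      exact this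
    rwa [h2, h2] at h1
  have hc : ∀ c : k, Nonempty ({i // d₁ i = c} ≃ {i // d₂ i = c}) := by
    intro c
    have h1 := congrArg (Multiset.count c) hm
    rw [Multiset.count_map, Multiset.count_map] at h1
    refine ⟨Fintype.equivOfCardEq ?_⟩
    rw [Fintype.card_subtype, Fintype.card_subtype]
    have h3 : ∀ d : Fin n → k, (Multiset.filter (fun a => c = d a) (Finset.univ : Finset (Fin n)).val).card =
        (Finset.univ.filter (fun i => d i = c)).card := by
      intro d
      rw [← Finset.filter_val]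
      change (Finset.univ.filter (fun a => c = d a)).card = _
      congr 1
      ext i
      simp [eq_comm]
    rw [← h3, ← h3]
    exact h1
  refine ⟨Equiv.ofFiberEquiv (f := d₁) (g := d₂) (fun c => (hc c).some), fun i => ?_⟩
  exact Equiv.ofFiberEquiv_map _ i

/-- two diagonalizable matrices with the same characteristic polynomial are conjugate. -/
theorem conj_of_charpoly_eq (S₁ S₂ : Matrix (Fin n) (Fin n) k)
    (h₁ : (⨆ μ : k, Module.End.eigenspace (Matrix.toLin' S₁) μ) = ⊤)
    (h₂ : (⨆ μ : k, Module.End.eigenspace (Matrix.toLin' S₂) μ) = ⊤)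
    (h : S₁.charpoly = S₂.charpoly) :
    ∃ A : Matrix (Fin n) (Fin n) k, IsUnit A.det ∧ A * S₁ * A⁻¹ = S₂ := by
  obtain ⟨P₁, d₁, hP₁, e₁⟩ := exists_diagonal S₁ h₁
  obtain ⟨P₂, d₂, hP₂, e₂⟩ := exists_diagonal S₂ h₂
  have hcp : ∀ (P : Matrix (Fin n) (Fin n) k) (d : Fin n → k), IsUnit P.det →
      (P * Matrix.diagonal d * P⁻¹).charpoly = ∏ i, (Polynomial.X - Polynomial.C (d i)) := by
    intro P d hP
    have hu : IsUnit P := (Matrix.isUnit_iff_isUnit_det P).mpr hP
    obtain ⟨u, rfl⟩ := hu
    rw [Matrix.charpoly_units_conj, Matrix.charpoly_diagonal]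
  rw [e₁, e₂, hcp _ _ hP₁, hcp _ _ hP₂] at h
  obtain ⟨σ, hσ⟩ := exists_perm_of_prod_eq h
  -- permutation matrix
  let Q : Matrix (Fin n) (Fin n) k := (1 : Matrix (Fin n) (Fin n) k).submatrix id σ
  let Q' : Matrix (Fin n) (Fin n) k := (1 : Matrix (Fin n) (Fin n) k).submatrix σ id
  have hQQ' : Q * Q' = 1 := by
    simp only [Q, Q']
    rw [Matrix.submatrix_mul_equiv, mul_one, Matrix.submatrix_id_id]
  have hQ'Q : Q' * Q = 1 := by
    exact mul_eq_one_comm.mp hQQ'
  have hQd : Q * Matrix.diagonal d₁ * Q' = Matrix.diagonal d₂ := by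
    ext i j
    simp only [Q, Q', Matrix.mul_apply, Matrix.submatrix_apply, id, Matrix.one_apply,
      Matrix.mul_diagonal, ite_mul, one_mul, zero_mul, mul_ite, mul_one, mul_zero, Matrix.diagonal_apply]
    have key : ∀ x : Fin n, (if i = σ x then (if σ x = j then d₁ x else 0) else 0) =
        if x = σ.symm i then (if i = j then d₂ i else 0) else 0 := by
      intro x
      by_cases hx : i = σ x
      · subst hx
        rw [if_pos rfl, Equiv.symm_apply_apply, if_pos rfl, hσ]
      · rw [if_neg hx, if_neg]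
        intro h'
        exact hx (by rw [h', Equiv.apply_symm_apply])
    have : ∑ x, (if i = σ x then (if σ x = j then d₁ x else 0) else 0) = if i = j then d₂ i else 0 := by
      rw [Finset.sum_congr rfl fun x _ => key x]
      simp
    rw [← this]
    refine Finset.sum_congr rfl fun x _ => ?_
    by_cases hx : i = σ x
    · subst hx
      simp
    · simp [hx]
  refine ⟨P₂ * Q * P₁⁻¹, ?_, ?_⟩
  · have hQdet : IsUnit Q.det := by
      rw [← Matrix.isUnit_iff_isUnit_det]
      exact ⟨⟨Q, Q', hQQ', hQ'Q⟩, rfl⟩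
    rw [Matrix.det_mul, Matrix.det_mul]
    exact (hP₂.mul hQdet).mul (Matrix.isUnit_nonsing_inv_det_iff.mpr hP₁)
  · have hinv : (P₂ * Q * P₁⁻¹)⁻¹ = P₁ * Q' * P₂⁻¹ := by
      apply Matrix.inv_eq_right_inv
      calc P₂ * Q * P₁⁻¹ * (P₁ * Q' * P₂⁻¹) = P₂ * Q * (P₁⁻¹ * P₁) * Q' * P₂⁻¹ := by
            simp only [mul_assoc]
        _ = 1 := by
            rw [Matrix.nonsing_inv_mul _ hP₁, mul_one, mul_assoc P₂, hQQ', mul_one,
              Matrix.mul_nonsing_inv _ hP₂]
    rw [hinv, e₁, e₂]
    calc P₂ * Q * P₁⁻¹ * (P₁ * Matrix.diagonal d₁ * P₁⁻¹) * (P₁ * Q' * P₂⁻¹) =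
        P₂ * Q * (P₁⁻¹ * P₁) * Matrix.diagonal d₁ * (P₁⁻¹ * P₁) * Q' * P₂⁻¹ := by
          simp only [mul_assoc]
      _ = P₂ * (Q * Matrix.diagonal d₁ * Q') * P₂⁻¹ := by
          rw [Matrix.nonsing_inv_mul _ hP₁]
          simp only [mul_one, mul_assoc]
      _ = P₂ * Matrix.diagonal d₂ * P₂⁻¹ := by rw [hQd]

/-- characteristic polynomials are constant along the closure of a conjugation orbit -/
theorem charpoly_eq_of_closure (B C : Matrix (Fin n) (Fin n) k)
    (h : ∀ F : MvPolynomial (Fin n × Fin n) k, VanOrb B F →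
      MvPolynomial.eval (fun p => C p.1 p.2) F = 0) : C.charpoly = B.charpoly := by
  -- the universal characteristic polynomial
  let U : Matrix (Fin n) (Fin n) (MvPolynomial (Fin n × Fin n) k) := Matrix.of fun i j => MvPolynomial.X (i, j)
  have hU : ∀ M : Matrix (Fin n) (Fin n) k, ∀ i : ℕ,
      MvPolynomial.eval (fun p : Fin n × Fin n => M p.1 p.2) (U.charpoly.coeff i) = M.charpoly.coeff i := by
    intro M i
    have h1 : (MvPolynomial.eval (fun p : Fin n × Fin n => M p.1 p.2)).mapMatrix U = M := by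
      ext i j
      simp [U]
    have h2 := Matrix.charpoly_map U (MvPolynomial.eval (fun p : Fin n × Fin n => M p.1 p.2))
    have h3 : U.map (MvPolynomial.eval (fun p : Fin n × Fin n => M p.1 p.2)) = M := h1
    rw [h3] at h2
    rw [h2, Polynomial.coeff_map]
  ext i
  have h1 := h (U.charpoly.coeff i - MvPolynomial.C (B.charpoly.coeff i)) (by
    intro A hA
    rw [map_sub, MvPolynomial.eval_C, hU (A * B * A⁻¹) i]
    obtain ⟨u, rfl⟩ := (Matrix.isUnit_iff_isUnit_det A).mpr hA
    rw [Matrix.charpoly_units_conj, sub_self])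
  rw [map_sub, MvPolynomial.eval_C, hU C i] at h1
  exact sub_eq_zero.mp h1

theorem closures_meet_iff [IsAlgClosed k] (B₁ S₁ N₁ B₂ S₂ N₂ : Matrix (Fin n) (Fin n) k)
    (hS₁ : Module.End.IsSemisimple (Matrix.toLin' S₁)) (hN₁ : IsNilpotent N₁) (hc₁ : Commute S₁ N₁)
    (hB₁ : B₁ = S₁ + N₁)
    (hS₂ : Module.End.IsSemisimple (Matrix.toLin' S₂)) (hN₂ : IsNilpotent N₂) (hc₂ : Commute S₂ N₂)
    (hB₂ : B₂ = S₂ + N₂) :
    (∃ C : Matrix (Fin n) (Fin n) k,
        (∀ F : MvPolynomial (Fin n × Fin n) k, VanOrb B₁ F →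
          MvPolynomial.eval (fun p => C p.1 p.2) F = 0) ∧
        (∀ F : MvPolynomial (Fin n × Fin n) k, VanOrb B₂ F →
          MvPolynomial.eval (fun p => C p.1 p.2) F = 0)) ↔
      ∃ A : Matrix (Fin n) (Fin n) k, IsUnit A.det ∧ A * S₁ * A⁻¹ = S₂ := by
  haveI : Infinite k := IsAlgClosed.instInfinite
  constructor
  · rintro ⟨C, h1, h2⟩
    have e1 := charpoly_eq_of_closure B₁ C h1
    have e2 := charpoly_eq_of_closure B₂ C h2
    have e3 := charpoly_eq_of_closure B₁ S₁
      (fun F hF => eval_semisimple_eq_zero B₁ S₁ N₁ hS₁ hN₁ hc₁ hB₁ F hF)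
    have e4 := charpoly_eq_of_closure B₂ S₂
      (fun F hF => eval_semisimple_eq_zero B₂ S₂ N₂ hS₂ hN₂ hc₂ hB₂ F hF)
    exact conj_of_charpoly_eq S₁ S₂ hS₁.iSup_eigenspace_eq_top hS₂.iSup_eigenspace_eq_top
      (by rw [e3, ← e1, e2, e4])
  · rintro ⟨A, hA, hAS⟩
    refine ⟨S₂, fun F hF => ?_, fun F hF =>
      eval_semisimple_eq_zero B₂ S₂ N₂ hS₂ hN₂ hc₂ hB₂ F hF⟩
    have hAA : A⁻¹ * A = 1 := Matrix.nonsing_inv_mul _ hA
    have hAA' : A * A⁻¹ = 1 := Matrix.mul_nonsing_inv _ hA
    -- `A N₁ A⁻¹` is nilpotent and commutes with `S₂`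
    have hconj : ∀ X Y : Matrix (Fin n) (Fin n) k, (A * X * A⁻¹) * (A * Y * A⁻¹) = A * (X * Y) * A⁻¹ := by
      intro X Y
      calc (A * X * A⁻¹) * (A * Y * A⁻¹) = A * X * (A⁻¹ * A) * Y * A⁻¹ := by simp only [mul_assoc]
        _ = A * (X * Y) * A⁻¹ := by rw [hAA, mul_one]; simp only [mul_assoc]
    have hNn : IsNilpotent (A * N₁ * A⁻¹) := by
      obtain ⟨m, hm⟩ := hN₁
      refine ⟨m, ?_⟩
      have : ∀ l : ℕ, (A * N₁ * A⁻¹) ^ l = A * N₁ ^ l * A⁻¹ := by
        intro l
        induction l with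
        | zero => rw [pow_zero, pow_zero, mul_one, hAA']
        | succ l ih => rw [pow_succ, ih, hconj, ← pow_succ]
      rw [this, hm, mul_zero, zero_mul]
    have hcomm : Commute S₂ (A * N₁ * A⁻¹) := by
      rw [← hAS]
      change (A * S₁ * A⁻¹) * (A * N₁ * A⁻¹) = (A * N₁ * A⁻¹) * (A * S₁ * A⁻¹)
      rw [hconj, hconj, hc₁.eq]
    refine eval_semisimple_eq_zero (A * B₁ * A⁻¹) S₂ (A * N₁ * A⁻¹) hS₂ hNn hcomm ?_ F ?_
    · rw [hB₁, mul_add, add_mul, hAS]
    · intro A' hA'
      have hAA2 := hF (A' * A) (by rw [Matrix.det_mul]; exact hA'.mul hA)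
      have : A' * (A * B₁ * A⁻¹) * A'⁻¹ = (A' * A) * B₁ * (A' * A)⁻¹ := by
        rw [Matrix.mul_inv_rev]
        simp only [mul_assoc]
      rw [this]
      exact hAA2

end Mat

end K702.MatClosure
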