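import Groth.Agent.InvQ.K702.HMCore
import Mathlib.RingTheory.Valuation.LocalSubring
import Mathlib.Algebra.Algebra.Subalgebra.Directed

/-!
Extension of homomorphisms into an algebraically closed field to valuation rings (places).
-/

set_option autoImplicit false
universe u v x

namespace K702.Place

open IsLocalRing

variable {k K : Type u} [Field k] [IsAlgClosed k] [Field K] [Algebra k K]

/-- subalgebras of `K × k` which are graphs of partial functions -/
def IsGraph (G : Subalgebra k (K × k)) : Prop := ∀ c : k, ((0 : K), c) ∈ G → c = 0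

omit [IsAlgClosed k] in
theorem exists_max (G₀ : Subalgebra k (K × k)) (h₀ : IsGraph G₀) :
    ∃ G : Subalgebra k (K × k), G₀ ≤ G ∧ Maximal (fun G : Subalgebra k (K × k) => IsGraph G) G := by
  obtain ⟨m, hm, hmax⟩ := zorn_le_nonempty₀ {G : Subalgebra k (K × k) | IsGraph G} (by
    intro c hc hchain y hy
    have : Nonempty c := ⟨⟨y, hy⟩⟩
    have hdir : Directed (· ≤ ·) (fun G : c => (G : Subalgebra k (K × k))) := by
      intro a b
      rcases hchain.total a.2 b.2 with h | h
      · exact ⟨b, h, le_refl _⟩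
      · exact ⟨a, le_refl _, h⟩
    refine ⟨⨆ G : c, (G : Subalgebra k (K × k)), ?_, ?_⟩
    · intro e he
      have h1 : ((0 : K), e) ∈ ((⨆ G : c, (G : Subalgebra k (K × k)) : Subalgebra k (K × k)) : Set (K × k)) := he
      rw [Subalgebra.coe_iSup_of_directed hdir, Set.mem_iUnion] at h1
      obtain ⟨G, hG⟩ := h1
      exact hc G.2 e hG
    · intro z hz
      exact le_iSup (fun G : c => (G : Subalgebra k (K × k))) ⟨z, hz⟩) G₀ h₀
  exact ⟨m, hm, hmax⟩

/-- the place extension theorem -/
theorem exists_place (D : Subalgebra k K) (z : D →ₐ[k] k) :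
    ∃ (V : ValuationSubring K) (hk : ∀ c : k, algebraMap k K c ∈ V) (res : V →+* k),
      (∀ c, res ⟨algebraMap k K c, hk c⟩ = c) ∧ (∀ v : V, res v = 0 ↔ v ∈ maximalIdeal V) ∧
      ∀ d : D, ∃ h : (d : K) ∈ V, res ⟨d, h⟩ = z d := by
  classical
  obtain ⟨G, hG₀, hG, hmax⟩ := exists_max ((D.val.prod z).range) (by
    rintro c ⟨d, hd⟩
    have h1 : (d : K) = 0 := congrArg Prod.fst hd
    have h2 : z d = c := congrArg Prod.snd hd
    have h3 : d = 0 := Subtype.ext h1
    rw [← h2, h3, map_zero])
  have hGfun : ∀ (a : K) (b b' : k), (a, b) ∈ G → (a, b') ∈ G → b = b' := by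
    intro a b b' h h'
    have h1 : ((0 : K), b - b') ∈ G := by
      have := G.sub_mem h h'
      simpa using this
    exact sub_eq_zero.mp (hG _ h1)
  -- the domain
  let B : Subalgebra k K := G.map (AlgHom.fst k K k)
  have hB : ∀ a : K, a ∈ B ↔ ∃ b : k, (a, b) ∈ G := by
    intro a
    constructor
    · rintro ⟨⟨a', b⟩, hab, rfl⟩
      exact ⟨b, hab⟩
    · rintro ⟨b, hb⟩
      exact ⟨(a, b), hb, rfl⟩
  have hconst : ∀ c : k, (algebraMap k K c, c) ∈ G := fun c => G.algebraMap_mem c
  let I : Ideal B.toSubring :=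
    { carrier := {a | ((a : K), (0 : k)) ∈ G}
      add_mem' := by
        intro a b ha hb
        have := G.add_mem ha hb
        simpa using this
      zero_mem' := G.zero_mem
      smul_mem' := by
        intro c a ha
        obtain ⟨b, hb⟩ := (hB c).mp c.2
        have := G.mul_mem hb ha
        simpa using this }
  have hI : I ≠ ⊤ := by
    intro h
    have h1 : ((1 : K), (0 : k)) ∈ G := by
      have : (1 : B.toSubring) ∈ I := by rw [h]; trivial
      exact this
    exact one_ne_zero (hGfun 1 1 0 G.one_mem h1)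
  obtain ⟨V, hBV, hIV⟩ := Ideal.image_subset_nonunits_valuationSubring I hI
  have hBV' : ∀ a ∈ B, a ∈ V := fun a ha => hBV ha
  have hk : ∀ c : k, algebraMap k K c ∈ V := fun c => hBV' _ (B.algebraMap_mem c)
  let ik : k →+* V := (algebraMap k K).codRestrict V.toSubring hk
  letI : Algebra k (ResidueField V) := ((residue V).comp ik).toAlgebra
  have hGV : ∀ a b, (a, b) ∈ G → ∃ ha : a ∈ V, residue V ⟨a, ha⟩ = algebraMap k (ResidueField V) b := by
    intro a b hab
    have ha : a ∈ V := hBV' a ((hB a).mpr ⟨b, hab⟩)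
    refine ⟨ha, ?_⟩
    have h1 : (a - algebraMap k K b, (0 : k)) ∈ G := by
      have := G.sub_mem hab (hconst b)
      simpa using this
    have h2 : a - algebraMap k K b ∈ V.nonunits := by
      apply hIV
      exact ⟨⟨a - algebraMap k K b, (hB _).mpr ⟨0, h1⟩⟩, h1, rfl⟩
    have h3 : (⟨a, ha⟩ - ik b : V) ∈ maximalIdeal V := by
      rw [← ValuationSubring.coe_mem_nonunits_iff]
      exact h2
    have h4 : residue V (⟨a, ha⟩ - ik b) = 0 := (residue_eq_zero_iff _).mpr h3
    rw [map_sub, sub_eq_zero] at h4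
    exact h4
  -- everything in `V` is in the domain
  have hVB : ∀ x ∈ V, ∃ c : k, (x, c) ∈ G := by
    intro x hx
    let xb : ResidueField V := residue V ⟨x, hx⟩
    obtain ⟨g', hg'⟩ := K702.HMCore.exists_pt_of_pt (k := k) (A := Polynomial k) (Polynomial.aeval xb)
      {p | Polynomial.aeval xb p = 0} (fun p hp => hp)
    let c : k := g' Polynomial.X
    have hc : ∀ p : Polynomial k, Polynomial.aeval xb p = 0 → p.eval c = 0 := by
      intro p hp
      have h1 := hg' p hp
      have h2 : g' p = p.eval c := by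
        have : g' = Polynomial.aeval c := Polynomial.algHom_ext (by rw [Polynomial.aeval_X])
        rw [this, Polynomial.coe_aeval_eq_eval]
      rw [← h2, h1]
    let G' : Subalgebra k (K × k) := Algebra.adjoin k ((G : Set (K × k)) ∪ {(x, c)})
    have hG'G : G ≤ G' := fun a ha => Algebra.subset_adjoin (Or.inl ha)
    have hP : ∀ y ∈ G', ∃ (hy : y.1 ∈ V) (p : Polynomial k), residue V ⟨y.1, hy⟩ = Polynomial.aeval xb p ∧
        y.2 = p.eval c := by
      intro y hy
      induction hy using Algebra.adjoin_induction with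
      | mem y hy =>
        rcases hy with hy | hy
        · obtain ⟨a, b⟩ := y
          obtain ⟨ha, hres⟩ := hGV a b hy
          exact ⟨ha, Polynomial.C b, by rw [hres, Polynomial.aeval_C], by rw [Polynomial.eval_C]⟩
        · rw [Set.mem_singleton_iff] at hy
          subst hy
          exact ⟨hx, Polynomial.X, by rw [Polynomial.aeval_X], by rw [Polynomial.eval_X]⟩
      | algebraMap r =>
        exact ⟨hk r, Polynomial.C r, by rw [Polynomial.aeval_C]; rfl, by rw [Polynomial.eval_C]; rfl⟩
      | add y z _ _ hy hz =>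
        obtain ⟨hy, p, hp, hp'⟩ := hy
        obtain ⟨hz, q, hq, hq'⟩ := hz
        refine ⟨V.add_mem _ _ hy hz, p + q, ?_, ?_⟩
        · rw [map_add, ← hp, ← hq, ← map_add]
          rfl
        · rw [Prod.snd_add, hp', hq', Polynomial.eval_add]
      | mul y z _ _ hy hz =>
        obtain ⟨hy, p, hp, hp'⟩ := hy
        obtain ⟨hz, q, hq, hq'⟩ := hz
        refine ⟨V.mul_mem _ _ hy hz, p * q, ?_, ?_⟩
        · rw [map_mul, ← hp, ← hq, ← map_mul]
          rfl
        · rw [Prod.snd_mul, hp', hq', Polynomial.eval_mul]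
    have hG' : IsGraph G' := by
      intro e he
      obtain ⟨h0, p, hp, hp'⟩ := hP _ he
      change e = _ at hp'
      rw [hp']
      apply hc
      rw [← hp]
      have : (⟨((0 : K), e).1, h0⟩ : V) = 0 := rfl
      rw [this, map_zero]
    have h1 := hmax hG' hG'G
    exact ⟨c, h1 (Algebra.subset_adjoin (Or.inr rfl))⟩
  -- the residue map
  let f : G →+* V :=
    { toFun := fun y => ⟨y.1.1, hBV' _ ((hB _).mpr ⟨y.1.2, y.2⟩)⟩
      map_one' := rfl
      map_mul' := fun _ _ => rfl
      map_zero' := rfl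
      map_add' := fun _ _ => rfl }
  have hf : Function.Bijective f := by
    constructor
    · intro a b hab
      have h1 : a.1.1 = b.1.1 := congrArg Subtype.val hab
      apply Subtype.ext
      apply Prod.ext h1
      apply hGfun a.1.1
      · exact a.2
      · rw [h1]; exact b.2
    · rintro ⟨v, hv⟩
      obtain ⟨c, hc⟩ := hVB v hv
      exact ⟨⟨(v, c), hc⟩, rfl⟩
  let ef := RingEquiv.ofBijective f hf
  let sn : G →+* k := (RingHom.snd K k).comp G.val.toRingHom
  let res : V →+* k := sn.comp ef.symm.toRingHom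
  have hres : ∀ (a : K) (b : k) (hab : (a, b) ∈ G) (ha : a ∈ V), res ⟨a, ha⟩ = b := by
    intro a b hab ha
    have h1 : ef ⟨(a, b), hab⟩ = ⟨a, ha⟩ := rfl
    change sn (ef.symm ⟨a, ha⟩) = b
    rw [← h1, RingEquiv.symm_apply_apply]
    rfl
  refine ⟨V, hk, res, ?_, ?_, ?_⟩
  · intro c
    exact hres _ _ (hconst c) _
  · rintro ⟨v, hv⟩
    obtain ⟨c, hc⟩ := hVB v hv
    rw [hres v c hc hv]
    obtain ⟨hv', h1⟩ := hGV v c hc
    rw [← residue_eq_zero_iff, h1]
    constructor
    · rintro rfl; rw [map_zero]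
    · intro h
      exact (map_eq_zero_iff _ (algebraMap k (ResidueField V)).injective).mp h
  · intro d
    have h1 : ((d : K), z d) ∈ G := hG₀ ⟨d, rfl⟩
    obtain ⟨ha, -⟩ := hGV _ _ h1
    exact ⟨ha, hres _ _ h1 ha⟩

end K702.Place
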