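import Groth.Agent.InvQ.K702.SLGeomRed
import Groth.Agent.InvQ.K702.CoactRat
import Groth.Agent.InvQ.K702.PointStab

/-!
# Semistability of point sets under the special linear group, in any characteristic
-/

set_option autoImplicit false
set_option linter.unusedSectionVars false
universe u v

open TensorProduct LaurentPolynomial CoordGrp

namespace K702.PointSemi

open K687 K702.FormsStab K702.HMStab K702.Forms K702.PointSets K702.PointStab

attribute [local instance] coactF coactF_isCoactAlg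

section forms

variable {k : Type u} [Field k] [IsAlgClosed k] {N d : ℕ}

/-- A form which is not semistable has only monomials of positive weight after some linear substitution. -/
theorem exists_pos_of_not_isSemistableVec (hd : (Nat.factorial d : k) ≠ 0) (a : FormIdx N d → k)
    (h : ¬ GLin.IsSemistableVec k (SLn N k) a) :
    ∃ M : Matrix (Fin N) (Fin N) k, M.det = 1 ∧ ∃ r : Fin N → ℤ, ∑ i, r i = 0 ∧
      ∀ m : FormIdx N d, MvPolynomial.coeff m.1 (sub M (formPoly a)) ≠ 0 → 0 < ∑ j, (m.1 j : ℤ) * r j := by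
  replace h := K702.CoactRat.inOrbitClosure_of_isNullform K702.SLRed.geomRed_SLn coactF_isLinear a (not_not.mp h)
  have hI := isStable_originIdeal (k := k) (coactF_isLinear (k := k) (N := N) (d := d))
  obtain ⟨a₀, r, hr, y, hy, hyI⟩ := hm_SLn _ hI _ _ h vecPt_zero_mem
  refine ⟨K702.SL.mat a₀.hom, K702.SL.det_mat a₀.hom, r, hr, fun m hm => ?_⟩
  have h1 := isLimit_conj hy a₀⁻¹
  rw [conj_conj, inv_mul_cancel, conj_one, inv_inv] at h1
  obtain ⟨q, hq, hq0⟩ := h1
  set p : FormRing k N d →ₐ[k] k := mv (GLin.vecPt k (FormIdx N d) a) a₀ with hp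
  have hpm : p (MvPolynomial.X m) ≠ 0 := by
    intro h0
    exact hm ((mv_eq_zero_iff hd a a₀.hom m).mp h0)
  -- the orbit in coordinates
  have hdg : (SLn.diag N k r hr : SLn N k →ₐ[k] k[T;T⁻¹]) =
      K702.HMCore.dg (fun j => ((tUnit (k := k) r j : (k[T;T⁻¹])ˣ) : k[T;T⁻¹])) (prod_tUnit_one r hr) := by
    apply K702.SL.ext
    intro i j
    rw [BialgHom.coe_toAlgHom, SLn.diag_X]
    have := congrFun (congrFun (K702.HMCore.mat_dg (k := k) _ (prod_tUnit_one (k := k) r hr)) i) j
    rw [K702.SL.mat_apply] at this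
    rw [this, Matrix.diagonal_apply]
    rfl
  have horb : GLin.lamOrbit k (SLn N k) (SLn.diag N k r hr) p (MvPolynomial.X m) =
      algebraMap k k[T;T⁻¹] (p (MvPolynomial.X m)) * T (∑ j, (m.1 j : ℤ) * r j) := by
    rw [lamOrbit_eq]
    have h2 := mv_X_eq (fun m j => (m.1 j : ℤ)) hasWts ((Algebra.ofId k k[T;T⁻¹]).comp p) (tUnit (k := k) r)
      (prod_tUnit_one r hr) m
    rw [prod_tUnit, ← hdg] at h2
    exact h2
  have h2 := congrArg (fun φ => φ (MvPolynomial.X m)) hq
  simp only [AlgHom.comp_apply, horb] at h2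
  have hcoef : ∀ j : ℤ, (Polynomial.toLaurentAlg (q (MvPolynomial.X m))).coeff j =
      if (∑ j, (m.1 j : ℤ) * r j) = j then p (MvPolynomial.X m) else 0 := by
    intro j
    rw [h2, LaurentPolynomial.algebraMap_apply, ← LaurentPolynomial.single_eq_C_mul_T]
    simp only [AddMonoidAlgebra.coeff_single, Finsupp.single_apply]
    rfl
  rcases lt_trichotomy 0 (∑ j, (m.1 j : ℤ) * r j) with hlt | h0 | hgt
  · exact hlt
  · exfalso
    have h3 : Polynomial.aeval (0 : k) (q (MvPolynomial.X m)) = 0 := by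
      have h4 := congrArg (fun φ => φ (MvPolynomial.X m)) hq0
      have h5 : mv y a₀ (MvPolynomial.X m) ∈ (⊥ : Ideal k) := mv_mem_of_stable hI ⊥ y (fun f hf => hyI f hf) a₀ _
        (Ideal.subset_span ⟨m, rfl⟩)
      exact h4.trans h5
    rw [aeval_zero_eq_coeff] at h3
    have h4 := hcoef 0
    rw [if_pos h0.symm] at h4
    rw [← h4] at hpm
    apply hpm
    exact h3
  · exfalso
    have h4 := hcoef (∑ j, (m.1 j : ℤ) * r j)
    rw [if_pos rfl] at h4
    rw [← h4] at hpm
    exact hpm (coeff_toLaurent_neg _ _ hgt)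

theorem semistable_of_le (hN : 0 < N) (hd : (Nat.factorial d : k) ≠ 0) (p : Fin d → Fin N → k) (hp : ∀ i, p i ≠ 0)
    (a : FormIdx N d → k) (ha : formPoly a = ∏ i, lin (p i))
    (hle : ∀ W : Submodule k (Fin N → k), Nat.card {i : Fin d // p i ∈ W} * N ≤ d * Module.finrank k W) :
    GLin.IsSemistableVec k (SLn N k) a := by
  classical
  by_contra hcon
  obtain ⟨M, hM1, r, hr, hlim⟩ := exists_pos_of_not_isSemistableVec hd a hcon
  have hM : M.det ≠ 0 := by rw [hM1]; exact one_ne_zero
  replace hlim : WtGE r 1 (sub M (formPoly a)) :=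
    (WtGE_iff (sub_isHomogeneous M (formPoly_isHomogeneous a)) r 1).mpr fun m hm => hlim m hm
  rw [ha, sub_prod_lin] at hlim
  have hw : ∀ i, ∃ j, Matrix.vecMul (p i) M j ≠ 0 ∧ ∀ l, Matrix.vecMul (p i) M l ≠ 0 → r j ≤ r l := by
    intro i
    obtain ⟨j0, hj0⟩ := Function.ne_iff.mp (vecMul_ne_zero M hM (hp i))
    obtain ⟨j, hj, hmin⟩ := Finset.exists_min_image (Finset.univ.filter fun j => Matrix.vecMul (p i) M j ≠ 0) r
      ⟨j0, by rw [Finset.mem_filter]; exact ⟨Finset.mem_univ _, hj0⟩⟩
    rw [Finset.mem_filter] at hj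
    exact ⟨j, hj.2, fun l hl => hmin l (by rw [Finset.mem_filter]; exact ⟨Finset.mem_univ _, hl⟩)⟩
  choose jj hjj hjmin using hw
  have h0 : 1 ≤ ∑ i, r (jj i) :=
    le_sum_of_WtGE_prod Finset.univ r 1 _ (fun i => r (jj i)) (fun i _ l hl => hjmin i l hl)
      (fun i _ => ⟨jj i, hjj i, rfl⟩) hlim
  obtain ⟨jlo, -, hlo⟩ := Finset.exists_min_image Finset.univ r ⟨⟨0, hN⟩, Finset.mem_univ _⟩
  obtain ⟨jhi, -, hhi⟩ := Finset.exists_max_image Finset.univ r ⟨⟨0, hN⟩, Finset.mem_univ _⟩
  have e1 := sum_levels Finset.univ r (r jlo) (r jhi) (fun i _ => hlo i (Finset.mem_univ i))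
    (fun i _ => hhi i (Finset.mem_univ i))
  have e2 := sum_levels Finset.univ (fun i => r (jj i)) (r jlo) (r jhi)
    (fun i _ => hlo (jj i) (Finset.mem_univ _)) (fun i _ => hhi (jj i) (Finset.mem_univ _))
  rw [Finset.card_univ, Fintype.card_fin] at e1 e2
  rw [hr] at e1
  have hlev : ∀ c ∈ Finset.Ioc (r jlo) (r jhi),
      ((Finset.univ.filter fun i => c ≤ r (jj i)).card : ℤ) * N ≤
        d * ((Finset.univ.filter fun j => c ≤ r j).card : ℤ) := by
    intro c hc
    let W := coordSub M (fun j => r j < c)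
    have hfr : Module.finrank k W = (Finset.univ.filter fun j => c ≤ r j).card := by
      rw [finrank_coordSub M hM]
      congr 1
      ext j
      simp
    have h5 := hle W
    rw [hfr] at h5
    have h6 : Nat.card {i : Fin d // p i ∈ W} = (Finset.univ.filter fun i => c ≤ r (jj i)).card := by
      rw [Nat.card_eq_fintype_card, Fintype.card_subtype]
      congr 1
      ext i
      rw [Finset.mem_filter, Finset.mem_filter, mem_coordSub]
      refine and_congr_right fun _ => ?_
      constructor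
      · intro h
        by_contra hcon
        exact hjj i (h (jj i) (not_le.mp hcon))
      · intro h l hl
        by_contra hcon
        have := hjmin i l hcon
        omega
    rw [h6] at h5
    exact_mod_cast h5
  have h7 := Finset.sum_le_sum hlev
  rw [← Finset.sum_mul, ← Finset.mul_sum] at h7
  have h8 : (N : ℤ) * ∑ i, r (jj i) ≤ 0 := by
    rw [e2]
    have h9 : (N : ℤ) * (d * r jlo + ∑ c ∈ Finset.Ioc (r jlo) (r jhi),
        ((Finset.univ.filter fun i => c ≤ r (jj i)).card : ℤ)) ≤
        d * (N * r jlo + ∑ c ∈ Finset.Ioc (r jlo) (r jhi), ((Finset.univ.filter fun j => c ≤ r j).card : ℤ)) := by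
      nlinarith [h7]
    rw [← e1, mul_zero] at h9
    exact h9
  have h10 : (0 : ℤ) < (N : ℤ) * ∑ i, r (jj i) := mul_pos (by exact_mod_cast hN) (by omega)
  omega

end forms

end K702.PointSemi
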