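import Groth.Prelude.Def_W4c6intromoduliQuartic
import Mathlib.Tactic.Ring
import Mathlib.Tactic.LinearCombination
import Mathlib.Algebra.BigOperators.Fin
import Mathlib.Tactic.FinCases

/-!
Binary quartics: explicit coefficients of the product of four linear forms, and the invariants
`I`, `J` and the discriminant in terms of the three products of complementary brackets.
-/

set_option autoImplicit false
universe u

namespace K702.Quartic

open Polynomial W4c6intromoduli

variable {R : Type u} [CommRing R]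

theorem rootPoly_eq (la mu : Fin 4 → R) :
    rootPoly la mu =
      C (mu 0 * mu 1 * mu 2 * mu 3)
      + C (-(la 0 * mu 1 * mu 2 * mu 3 + mu 0 * la 1 * mu 2 * mu 3 + mu 0 * mu 1 * la 2 * mu 3
          + mu 0 * mu 1 * mu 2 * la 3)) * X
      + C (la 0 * la 1 * mu 2 * mu 3 + la 0 * mu 1 * la 2 * mu 3 + la 0 * mu 1 * mu 2 * la 3
          + mu 0 * la 1 * la 2 * mu 3 + mu 0 * la 1 * mu 2 * la 3 + mu 0 * mu 1 * la 2 * la 3) * X ^ 2
      + C (-(mu 0 * la 1 * la 2 * la 3 + la 0 * mu 1 * la 2 * la 3 + la 0 * la 1 * mu 2 * la 3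
          + la 0 * la 1 * la 2 * mu 3)) * X ^ 3
      + C (la 0 * la 1 * la 2 * la 3) * X ^ 4 := by
  rw [rootPoly, Fin.prod_univ_four]
  simp only [map_mul, map_add, map_neg]
  ring

theorem coef_zero (la mu : Fin 4 → R) : coef la mu 0 = mu 0 * mu 1 * mu 2 * mu 3 := by
  rw [coef, rootPoly_eq]
  simp only [coeff_add, coeff_C_mul, coeff_C_zero, coeff_X_pow, coeff_X]
  simp

theorem coef_one (la mu : Fin 4 → R) : coef la mu 1 =
    -(la 0 * mu 1 * mu 2 * mu 3 + mu 0 * la 1 * mu 2 * mu 3 + mu 0 * mu 1 * la 2 * mu 3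
          + mu 0 * mu 1 * mu 2 * la 3) := by
  rw [coef, rootPoly_eq]
  simp only [coeff_add, coeff_C_mul, coeff_X_pow, coeff_X, coeff_C]
  simp

theorem coef_two (la mu : Fin 4 → R) : coef la mu 2 =
    la 0 * la 1 * mu 2 * mu 3 + la 0 * mu 1 * la 2 * mu 3 + la 0 * mu 1 * mu 2 * la 3
          + mu 0 * la 1 * la 2 * mu 3 + mu 0 * la 1 * mu 2 * la 3 + mu 0 * mu 1 * la 2 * la 3 := by
  rw [coef, rootPoly_eq]
  simp only [coeff_add, coeff_C_mul, coeff_X_pow, coeff_X, coeff_C]
  simp

theorem coef_three (la mu : Fin 4 → R) : coef la mu 3 =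
    -(mu 0 * la 1 * la 2 * la 3 + la 0 * mu 1 * la 2 * la 3 + la 0 * la 1 * mu 2 * la 3
          + la 0 * la 1 * la 2 * mu 3) := by
  rw [coef, rootPoly_eq]
  simp only [coeff_add, coeff_C_mul, coeff_X_pow, coeff_X, coeff_C]
  simp

theorem coef_four (la mu : Fin 4 → R) : coef la mu 4 = la 0 * la 1 * la 2 * la 3 := by
  rw [coef, rootPoly_eq]
  simp only [coeff_add, coeff_C_mul, coeff_X_pow, coeff_X, coeff_C]
  simp

/-- The bracket `(i j) = la j * mu i - la i * mu j`. -/
def br (la mu : Fin 4 → R) (i j : Fin 4) : R := la j * mu i - la i * mu j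

/-- `(01)(23)`. -/
def bA (la mu : Fin 4 → R) : R := br la mu 0 1 * br la mu 2 3
/-- `(02)(31)`. -/
def bB (la mu : Fin 4 → R) : R := br la mu 0 2 * br la mu 3 1
/-- `(03)(12)`. -/
def bC (la mu : Fin 4 → R) : R := br la mu 0 3 * br la mu 1 2

theorem bA_add_bB_add_bC (la mu : Fin 4 → R) : bA la mu + bB la mu + bC la mu = 0 := by
  simp only [bA, bB, bC, br]; ring

theorem invI_eq (la mu : Fin 4 → R) :
    invI (coef la mu) = bA la mu ^ 2 + bA la mu * bB la mu + bB la mu ^ 2 := by
  simp only [invI, coef_zero, coef_one, coef_two, coef_three, coef_four, bA, bB, br]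
  ring

theorem invJ_eq (la mu : Fin 4 → R) :
    invJ (coef la mu) = (bB la mu - bA la mu) * (2 * bA la mu + bB la mu) * (bA la mu + 2 * bB la mu) := by
  simp only [invJ, coef_zero, coef_one, coef_two, coef_three, coef_four, bA, bB, br]
  ring

theorem disc_eq (la mu : Fin 4 → R) :
    disc la mu = (bA la mu * bB la mu * bC la mu) ^ 2 := by
  have h : ((Finset.univ : Finset (Fin 4 × Fin 4)).filter (fun p => p.1 < p.2)) =
      {(0, 1), (0, 2), (0, 3), (1, 2), (1, 3), (2, 3)} := by decide
  rw [disc, h]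
  rw [Finset.prod_insert (by decide), Finset.prod_insert (by decide), Finset.prod_insert (by decide),
    Finset.prod_insert (by decide), Finset.prod_insert (by decide), Finset.prod_singleton]
  simp only [bA, bB, bC, br]
  ring

theorem disc_identity (la mu : Fin 4 → R) :
    27 * disc la mu = 4 * invI (coef la mu) ^ 3 - invJ (coef la mu) ^ 2 := by
  have hC : bC la mu = -(bA la mu + bB la mu) := by
    linear_combination bA_add_bB_add_bC la mu
  rw [disc_eq, invI_eq, invJ_eq, hC]
  ring

end K702.Quartic
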