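import Groth.Agent.InvQ.K702.QuarticNorm
import Mathlib.Algebra.MvPolynomial.PDeriv

/-!
Binary quartics with a double root and no triple root.
-/

set_option autoImplicit false
universe u

namespace K702.Quartic

open W4c6intromoduli MvPolynomial

section Field
variable {k : Type u} [Field k]

/-- `X0² X1 (X0 - X1)` -/
noncomputable def F1 : MvPolynomial (Fin 2) k := X 0 ^ 2 * X 1 * (X 0 - X 1)
/-- `X0² X1²` -/
noncomputable def F2 : MvPolynomial (Fin 2) k := X 0 ^ 2 * X 1 ^ 2

theorem not_F1_F2 : ¬ Eqv (F1 : MvPolynomial (Fin 2) k) F2 := by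
  rintro ⟨M, c, hM, hc, h⟩
  set a : MvPolynomial (Fin 2) k := subst M (X 0) with ha
  set b : MvPolynomial (Fin 2) k := subst M (X 1) with hb
  have h' : X 0 ^ 2 * X 1 * (X 0 - X 1) = C c * (a ^ 2 * b ^ 2) := by
    have := h
    simp only [F1, F2, map_mul, map_pow] at this
    exact this
  have h1 := congrArg (eval ![(1 : k), 0]) h'
  have h2 := congrArg (fun p => eval ![(1 : k), 0] (pderiv (1 : Fin 2) p)) h'
  have hL : (pderiv (1 : Fin 2)) (X 0 ^ 2 * X 1 * (X 0 - X 1) : MvPolynomial (Fin 2) k) =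
      X 0 ^ 2 * (X 0 - X 1) - X 0 ^ 2 * X 1 := by
    rw [Derivation.leibniz, Derivation.leibniz, Derivation.leibniz_pow, map_sub, pderiv_X_self,
      pderiv_X_of_ne (by decide : (0 : Fin 2) ≠ 1)]
    simp only [smul_eq_mul]
    ring
  have hR : (pderiv (1 : Fin 2)) (C c * (a ^ 2 * b ^ 2)) =
      C c * (a * b * (2 * a * pderiv 1 b + 2 * b * pderiv 1 a)) := by
    rw [Derivation.leibniz, Derivation.leibniz, Derivation.leibniz_pow, Derivation.leibniz_pow, pderiv_C]
    simp only [smul_eq_mul, nsmul_eq_mul, Nat.cast_ofNat]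
    ring
  have h2' : eval ![(1 : k), 0] ((pderiv (1 : Fin 2)) (X 0 ^ 2 * X 1 * (X 0 - X 1) : MvPolynomial (Fin 2) k)) =
      eval ![(1 : k), 0] ((pderiv (1 : Fin 2)) (C c * (a ^ 2 * b ^ 2))) := h2
  rw [hL, hR] at h2'
  simp only [map_mul, map_pow, map_sub, map_add, eval_X, eval_C, Matrix.cons_val_zero,
    Matrix.cons_val_one] at h1 h2'
  have h3 : eval ![(1 : k), 0] a * eval ![(1 : k), 0] b = 0 := by
    have : c * (eval ![(1 : k), 0] a * eval ![(1 : k), 0] b) ^ 2 = 0 := by
      linear_combination -h1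
    exact pow_eq_zero_iff two_ne_zero |>.mp ((mul_eq_zero.mp this).resolve_left hc)
  rw [h3] at h2'
  simp at h2'

theorem exists_smul_of_br {la mu : Fin 4 → k} {i j : Fin 4} (hi : la i ≠ 0 ∨ mu i ≠ 0)
    (hj : la j ≠ 0 ∨ mu j ≠ 0) (h : br la mu i j = 0) :
    ∃ t : k, t ≠ 0 ∧ la j = t * la i ∧ mu j = t * mu i := by
  have h' : la j * mu i = la i * mu j := sub_eq_zero.mp h
  rcases hi with hi | hi
  · have e1 : la j = la j / la i * la i := (div_mul_cancel₀ _ hi).symm
    have e2 : mu j = la j / la i * mu i := by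
      rw [div_mul_eq_mul_div, eq_div_iff hi, h', mul_comm]
    refine ⟨la j / la i, fun h0 => ?_, e1, e2⟩
    rw [h0, zero_mul] at e1 e2
    rcases hj with hj | hj
    · exact hj e1
    · exact hj e2
  · have e1 : mu j = mu j / mu i * mu i := (div_mul_cancel₀ _ hi).symm
    have e2 : la j = mu j / mu i * la i := by
      rw [div_mul_eq_mul_div, eq_div_iff hi, h', mul_comm]
    refine ⟨mu j / mu i, fun h0 => ?_, e2, e1⟩
    rw [h0, zero_mul] at e1 e2
    rcases hj with hj | hj
    · exact hj e2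
    · exact hj e1

theorem exists_eqv_of_br01 (la mu : Fin 4 → k) (hne : ∀ i, la i ≠ 0 ∨ mu i ≠ 0)
    (h01 : br la mu 0 1 = 0) (h02 : br la mu 0 2 ≠ 0) (h03 : br la mu 0 3 ≠ 0) :
    Eqv (binForm la mu) F1 ∨ Eqv (binForm la mu) F2 := by
  obtain ⟨t, ht, hla, hmu⟩ := exists_smul_of_br (hne 0) (hne 1) h01
  by_cases h23 : br la mu 2 3 = 0
  · right
    obtain ⟨s, hs, hla', hmu'⟩ := exists_smul_of_br (hne 2) (hne 3) h23
    refine ⟨!![mu 0, -la 0; mu 2, -la 2], t * s, ?_, mul_ne_zero ht hs, ?_⟩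
    · have : (!![mu 0, -la 0; mu 2, -la 2] : Matrix (Fin 2) (Fin 2) k).det = - br la mu 0 2 := by
        simp only [Matrix.det_fin_two_of, br]; ring
      rw [this]
      exact (neg_ne_zero.mpr h02).isUnit
    · rw [binForm, Fin.prod_univ_four, hla, hmu, hla', hmu', F2]
      simp only [subst, map_mul, map_pow, aeval_X, Fin.sum_univ_two, Matrix.of_apply, Matrix.cons_val',
        Matrix.cons_val_zero, Matrix.cons_val_one, Matrix.cons_val_fin_one, map_neg]
      ring
  · left
    set p := br la mu 2 3 with hp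
    set q := br la mu 0 3 with hq
    set r := br la mu 0 2 with hr
    have hne' : -(p ^ 2 * q * r) ≠ 0 :=
      neg_ne_zero.mpr (mul_ne_zero (mul_ne_zero (pow_ne_zero 2 h23) h03) h02)
    refine ⟨!![p * mu 0, -(p * la 0); q * mu 2, -(q * la 2)], t * (-(p ^ 2 * q * r))⁻¹, ?_,
      mul_ne_zero ht (inv_ne_zero hne'), ?_⟩
    · have : (!![p * mu 0, -(p * la 0); q * mu 2, -(q * la 2)] : Matrix (Fin 2) (Fin 2) k).det =
          - (p * q * r) := by
        simp only [Matrix.det_fin_two_of, hr, br]; ring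
      rw [this]
      exact (neg_ne_zero.mpr (mul_ne_zero (mul_ne_zero h23 h03) h02)).isUnit
    · have key : C (-(p ^ 2 * q * r)) * binForm la mu =
          C t * subst !![p * mu 0, -(p * la 0); q * mu 2, -(q * la 2)] F1 := by
        have e0 : subst !![p * mu 0, -(p * la 0); q * mu 2, -(q * la 2)] (X 0) =
            C p * (C (mu 0) * X 0 - C (la 0) * X 1) := by
          simp only [subst, aeval_X, Fin.sum_univ_two, Matrix.of_apply, Matrix.cons_val',
            Matrix.cons_val_zero, Matrix.cons_val_one, Matrix.cons_val_fin_one]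
          simp only [map_mul, map_neg]
          ring
        have e1 : subst !![p * mu 0, -(p * la 0); q * mu 2, -(q * la 2)] (X 1) =
            C q * (C (mu 2) * X 0 - C (la 2) * X 1) := by
          simp only [subst, aeval_X, Fin.sum_univ_two, Matrix.of_apply, Matrix.cons_val',
            Matrix.cons_val_zero, Matrix.cons_val_one, Matrix.cons_val_fin_one]
          simp only [map_mul, map_neg]
          ring
        have e2 : subst !![p * mu 0, -(p * la 0); q * mu 2, -(q * la 2)] (X 0 - X 1) =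
            C (-r) * (C (mu 3) * X 0 - C (la 3) * X 1) := by
          rw [map_sub, e0, e1]
          simp only [hp, hq, hr, br, map_sub, map_mul, map_neg]
          ring
        have e4 : subst !![p * mu 0, -(p * la 0); q * mu 2, -(q * la 2)] F1 =
            subst !![p * mu 0, -(p * la 0); q * mu 2, -(q * la 2)] (X 0) ^ 2 *
            subst !![p * mu 0, -(p * la 0); q * mu 2, -(q * la 2)] (X 1) *
            subst !![p * mu 0, -(p * la 0); q * mu 2, -(q * la 2)] (X 0 - X 1) := by
          rw [F1, map_mul, map_mul, map_pow]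
        rw [e4, e0, e1, e2, binForm, Fin.prod_univ_four, hla, hmu]
        simp only [map_mul, map_neg, map_pow]
        ring
      rw [mul_comm t, C_mul, mul_assoc, ← key, ← mul_assoc, ← C_mul, inv_mul_cancel₀ hne', C_1, one_mul]

theorem xor_of_disc_zero (la mu : Fin 4 → k) (hne : ∀ i, la i ≠ 0 ∨ mu i ≠ 0)
    (hd : disc la mu = 0)
    (h3z : ∀ i j l : Fin 4, i ≠ j → j ≠ l → i ≠ l →
      ¬ (la i * mu j = la j * mu i ∧ la j * mu l = la l * mu j)) :
    Xor (Eqv (binForm la mu) F1) (Eqv (binForm la mu) F2) := by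
  have hex : Eqv (binForm la mu) F1 ∨ Eqv (binForm la mu) F2 := by
    have main : ∀ σ : Equiv.Perm (Fin 4), br la mu (σ 0) (σ 1) = 0 →
        Eqv (binForm la mu) F1 ∨ Eqv (binForm la mu) F2 := by
      intro σ h01
      rw [← binForm_comp la mu σ]
      have h10 : br la mu (σ 1) (σ 0) = 0 := by rw [br_swap, h01, neg_zero]
      refine exists_eqv_of_br01 (la ∘ σ) (mu ∘ σ) (fun i => hne (σ i)) h01 ?_ ?_
      · intro h02
        have h02' : br la mu (σ 0) (σ 2) = 0 := h02
        exact h3z (σ 1) (σ 0) (σ 2) (fun h => absurd (σ.injective h) (by decide))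
          (fun h => absurd (σ.injective h) (by decide)) (fun h => absurd (σ.injective h) (by decide))
          ⟨(br_eq_zero_iff _ _ _ _).1 h10, (br_eq_zero_iff _ _ _ _).1 h02'⟩
      · intro h03
        have h03' : br la mu (σ 0) (σ 3) = 0 := h03
        exact h3z (σ 1) (σ 0) (σ 3) (fun h => absurd (σ.injective h) (by decide))
          (fun h => absurd (σ.injective h) (by decide)) (fun h => absurd (σ.injective h) (by decide))
          ⟨(br_eq_zero_iff _ _ _ _).1 h10, (br_eq_zero_iff _ _ _ _).1 h03'⟩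
    rw [disc_eq] at hd
    have hd' := pow_eq_zero_iff two_ne_zero |>.mp hd
    simp only [bA, bB, bC, mul_eq_zero] at hd'
    rcases hd' with ((h | h) | (h | h)) | (h | h)
    · exact main 1 h
    · refine main (Equiv.swap 0 2 * Equiv.swap 1 3) ?_
      have e0 : (Equiv.swap (0 : Fin 4) 2 * Equiv.swap 1 3 : Equiv.Perm (Fin 4)) 0 = 2 := by decide
      have e1 : (Equiv.swap (0 : Fin 4) 2 * Equiv.swap 1 3 : Equiv.Perm (Fin 4)) 1 = 3 := by decide
      rw [e0, e1]; exact h
    · refine main (Equiv.swap 1 2) ?_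
      have e0 : (Equiv.swap (1 : Fin 4) 2 : Equiv.Perm (Fin 4)) 0 = 0 := by decide
      have e1 : (Equiv.swap (1 : Fin 4) 2 : Equiv.Perm (Fin 4)) 1 = 2 := by decide
      rw [e0, e1]; exact h
    · refine main (Equiv.swap 0 3) ?_
      have e0 : (Equiv.swap (0 : Fin 4) 3 : Equiv.Perm (Fin 4)) 0 = 3 := by decide
      have e1 : (Equiv.swap (0 : Fin 4) 3 : Equiv.Perm (Fin 4)) 1 = 1 := by decide
      rw [e0, e1]; exact h
    · refine main (Equiv.swap 1 3) ?_
      have e0 : (Equiv.swap (1 : Fin 4) 3 : Equiv.Perm (Fin 4)) 0 = 0 := by decide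
      have e1 : (Equiv.swap (1 : Fin 4) 3 : Equiv.Perm (Fin 4)) 1 = 3 := by decide
      rw [e0, e1]; exact h
    · refine main (Equiv.swap 0 1 * Equiv.swap 1 2) ?_
      have e0 : (Equiv.swap (0 : Fin 4) 1 * Equiv.swap 1 2 : Equiv.Perm (Fin 4)) 0 = 1 := by decide
      have e1 : (Equiv.swap (0 : Fin 4) 1 * Equiv.swap 1 2 : Equiv.Perm (Fin 4)) 1 = 2 := by decide
      rw [e0, e1]; exact h
  have hnot : ¬ (Eqv (binForm la mu) F1 ∧ Eqv (binForm la mu) F2) := by
    rintro ⟨h1, h2⟩
    exact not_F1_F2 (h1.symm.trans h2)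
  rcases hex with h | h
  · exact Or.inl ⟨h, fun h' => hnot ⟨h, h'⟩⟩
  · exact Or.inr ⟨h, fun h' => hnot ⟨h', h⟩⟩

end Field

end K702.Quartic
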