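import Groth.Agent.InvQ.K702.Quartic
import Mathlib.LinearAlgebra.Matrix.NonsingularInverse
import Mathlib.Algebra.Field.Basic
import Mathlib.Tactic.FieldSimp
import Mathlib.Algebra.MvPolynomial.PDeriv

/-!
Binary quartics: triple roots, substitution calculus, normal forms.
-/

set_option autoImplicit false
universe u

namespace K702.Quartic

open W4c6intromoduli MvPolynomial

section Field
variable {k : Type u} [Field k]

theorem br_eq_zero_iff (la mu : Fin 4 → k) (i j : Fin 4) :
    br la mu i j = 0 ↔ la i * mu j = la j * mu i := by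
  rw [br, sub_eq_zero]
  exact eq_comm

theorem br_swap (la mu : Fin 4 → k) (i j : Fin 4) : br la mu i j = - br la mu j i := by
  simp only [br]; ring

/-- proportionality is transitive through a nonzero vector -/
theorem br_trans (la mu : Fin 4 → k) {i j l : Fin 4} (hj : la j ≠ 0 ∨ mu j ≠ 0)
    (h1 : br la mu i j = 0) (h2 : br la mu j l = 0) : br la mu i l = 0 := by
  have e1 : la j * br la mu i l = la i * br la mu j l + la l * br la mu i j := by
    simp only [br]; ring
  have e2 : mu j * br la mu i l = mu i * br la mu j l + mu l * br la mu i j := by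
    simp only [br]; ring
  rw [h1, h2, mul_zero, mul_zero, add_zero] at e1 e2
  rcases hj with hj | hj
  · exact (mul_eq_zero.mp e1).resolve_left hj
  · exact (mul_eq_zero.mp e2).resolve_left hj

theorem invI_invJ_eq_zero_iff (h2 : (2 : k) ≠ 0) (h3 : (3 : k) ≠ 0) (la mu : Fin 4 → k) :
    (invI (coef la mu) = 0 ∧ invJ (coef la mu) = 0) ↔
      bA la mu = 0 ∧ bB la mu = 0 ∧ bC la mu = 0 := by
  have hABC := bA_add_bB_add_bC la mu
  rw [invI_eq, invJ_eq]
  constructor
  · rintro ⟨hI, hJ⟩
    have key : bA la mu = 0 ∧ bB la mu = 0 := by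
      rcases mul_eq_zero.mp hJ with h | h
      · rcases mul_eq_zero.mp h with h | h
        · have hB : bB la mu = bA la mu := by linear_combination h
          rw [hB] at hI
          have : 3 * bA la mu ^ 2 = 0 := by linear_combination hI
          have hA : bA la mu = 0 := pow_eq_zero_iff (two_ne_zero) |>.mp ((mul_eq_zero.mp this).resolve_left h3)
          exact ⟨hA, by rw [hB, hA]⟩
        · have hB : bB la mu = -2 * bA la mu := by linear_combination h
          rw [hB] at hI
          have : 3 * bA la mu ^ 2 = 0 := by linear_combination hI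
          have hA : bA la mu = 0 := pow_eq_zero_iff (two_ne_zero) |>.mp ((mul_eq_zero.mp this).resolve_left h3)
          exact ⟨hA, by rw [hB, hA, mul_zero]⟩
      · have hA' : bA la mu = -2 * bB la mu := by linear_combination h
        rw [hA'] at hI
        have : 3 * bB la mu ^ 2 = 0 := by linear_combination hI
        have hB : bB la mu = 0 := pow_eq_zero_iff (two_ne_zero) |>.mp ((mul_eq_zero.mp this).resolve_left h3)
        exact ⟨by rw [hA', hB, mul_zero], hB⟩
    refine ⟨key.1, key.2, ?_⟩
    rw [key.1, key.2] at hABC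
    simpa using hABC
  · rintro ⟨hA, hB, -⟩
    rw [hA, hB]
    constructor <;> ring

theorem abc_zero_iff (la mu : Fin 4 → k) (hne : ∀ i, la i ≠ 0 ∨ mu i ≠ 0) :
    (bA la mu = 0 ∧ bB la mu = 0 ∧ bC la mu = 0) ↔
      ∃ i j l : Fin 4, i ≠ j ∧ j ≠ l ∧ i ≠ l ∧
        la i * mu j = la j * mu i ∧ la j * mu l = la l * mu j := by
  constructor
  · rintro ⟨hA, hB, hC⟩
    simp only [bA, bB, bC, mul_eq_zero, br_eq_zero_iff] at hA hB hC
    rcases hA with hA | hA <;> rcases hB with hB | hB <;> rcases hC with hC | hC
    · exact ⟨1, 0, 2, by decide, by decide, by decide, hA.symm, hB⟩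
    · exact ⟨1, 0, 2, by decide, by decide, by decide, hA.symm, hB⟩
    · exact ⟨0, 1, 3, by decide, by decide, by decide, hA, hB.symm⟩
    · exact ⟨0, 1, 3, by decide, by decide, by decide, hA, hB.symm⟩
    · exact ⟨3, 2, 0, by decide, by decide, by decide, hA.symm, hB.symm⟩
    · exact ⟨3, 2, 0, by decide, by decide, by decide, hA.symm, hB.symm⟩
    · exact ⟨2, 3, 1, by decide, by decide, by decide, hA, hB⟩
    · exact ⟨2, 3, 1, by decide, by decide, by decide, hA, hB⟩
  · rintro ⟨i, j, l, hij, hjl, hil, h1, h2⟩
    rw [← br_eq_zero_iff] at h1 h2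
    have h3 : br la mu i l = 0 := br_trans la mu (hne j) h1 h2
    have h1' : br la mu j i = 0 := by rw [br_swap, h1, neg_zero]
    have h2' : br la mu l j = 0 := by rw [br_swap, h2, neg_zero]
    have h3' : br la mu l i = 0 := by rw [br_swap, h3, neg_zero]
    simp only [bA, bB, bC, mul_eq_zero]
    fin_cases i <;> fin_cases j <;> fin_cases l <;>
      first
        | (exact absurd rfl hij)
        | (exact absurd rfl hjl)
        | (exact absurd rfl hil)
        | (refine ⟨?_, ?_, ?_⟩ <;>
            first
              | exact Or.inl h1 | exact Or.inr h1 | exact Or.inl h2 | exact Or.inr h2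
              | exact Or.inl h3 | exact Or.inr h3 | exact Or.inl h1' | exact Or.inr h1'
              | exact Or.inl h2' | exact Or.inr h2' | exact Or.inl h3' | exact Or.inr h3')

end Field

end K702.Quartic
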