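import Groth.Agent.InvQ.K702.QuarticEquiv
import Mathlib.LinearAlgebra.Matrix.Notation
import Mathlib.LinearAlgebra.Matrix.Determinant.Basic

/-!
Binary quartics: equivalence under substitutions and normal forms.
-/

set_option autoImplicit false
universe u

namespace K702.Quartic

open W4c6intromoduli MvPolynomial

section Field
variable {k : Type u} [Field k]

/-- `f` is a nonzero constant times a substitution of `g`. -/
def Eqv (f g : MvPolynomial (Fin 2) k) : Prop :=
  ∃ (M : Matrix (Fin 2) (Fin 2) k) (c : k), IsUnit M.det ∧ c ≠ 0 ∧ f = C c * subst M g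

theorem subst_subst (M N : Matrix (Fin 2) (Fin 2) k) (f : MvPolynomial (Fin 2) k) :
    subst M (subst N f) = subst (N * M) f := by
  have h : (subst M).comp (subst N) = subst (N * M) := by
    apply MvPolynomial.algHom_ext
    intro i
    simp only [AlgHom.comp_apply, subst, aeval_X, map_sum, map_mul, map_add, Matrix.mul_apply,
      Fin.sum_univ_two, algHom_C, MvPolynomial.algebraMap_eq]
    ring
  exact congrArg (fun φ => φ f) h

theorem subst_one (f : MvPolynomial (Fin 2) k) : subst (1 : Matrix (Fin 2) (Fin 2) k) f = f := by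
  have h : subst (1 : Matrix (Fin 2) (Fin 2) k) = AlgHom.id k _ := by
    apply MvPolynomial.algHom_ext
    intro i
    fin_cases i <;> simp [subst, Fin.sum_univ_two]
  rw [h]; rfl

theorem Eqv.symm {f g : MvPolynomial (Fin 2) k} (h : Eqv f g) : Eqv g f := by
  obtain ⟨M, c, hM, hc, rfl⟩ := h
  refine ⟨M⁻¹, c⁻¹, ?_, inv_ne_zero hc, ?_⟩
  · exact (Matrix.isUnit_nonsing_inv_det_iff).2 hM
  · rw [map_mul, subst_subst, Matrix.mul_nonsing_inv _ hM, subst_one, algHom_C,
      MvPolynomial.algebraMap_eq, ← mul_assoc, ← C_mul, inv_mul_cancel₀ hc, C_1, one_mul]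

theorem Eqv.trans {f g h : MvPolynomial (Fin 2) k} (h1 : Eqv f g) (h2 : Eqv g h) : Eqv f h := by
  obtain ⟨M, c, hM, hc, rfl⟩ := h1
  obtain ⟨N, d, hN, hd, rfl⟩ := h2
  refine ⟨N * M, c * d, ?_, mul_ne_zero hc hd, ?_⟩
  · rw [Matrix.det_mul]; exact hN.mul hM
  · rw [map_mul, subst_subst, algHom_C, MvPolynomial.algebraMap_eq, C_mul, mul_assoc]

/-- The normal form `X0 X1 (X0 - X1) (b X0 + c X1)`. -/
noncomputable def nf (b c : k) : MvPolynomial (Fin 2) k :=
  X 0 * X 1 * (X 0 - X 1) * (C b * X 0 + C c * X 1)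

theorem nf_smul (t b c : k) (ht : t ≠ 0) : Eqv (nf (t * b) (t * c)) (nf b c) := by
  refine ⟨1, t, by simp, ht, ?_⟩
  rw [subst_one, nf, nf, C_mul, C_mul]
  ring

/-- A split quartic whose first two root points are independent, and with `[12] ≠ 0`, `[02] ≠ 0`. -/
theorem binForm_eqv_nf (la mu : Fin 4 → k) (h01 : br la mu 0 1 ≠ 0)
    (h12 : br la mu 1 2 ≠ 0) (h02 : br la mu 0 2 ≠ 0) :
    Eqv (binForm la mu) (nf (bB la mu) (bC la mu)) := by
  -- L0 = [12] * l0, L1 = [02] * l1, so that [12] l0 - [02] l1 = - [01] l2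
  set p := br la mu 1 2 with hp
  set q := br la mu 0 2 with hq
  set r := br la mu 0 1 with hr
  let M : Matrix (Fin 2) (Fin 2) k := !![p * mu 0, -(p * la 0); q * mu 1, -(q * la 1)]
  have hdet : M.det = -(p * q * r) := by
    simp only [M, Matrix.det_fin_two_of, hr, br]
    ring
  refine ⟨M, (-(p ^ 2 * q ^ 2 * r ^ 2))⁻¹, ?_, ?_, ?_⟩
  · rw [hdet]
    exact (neg_ne_zero.mpr (mul_ne_zero (mul_ne_zero h12 h02) h01)).isUnit
  · exact inv_ne_zero (neg_ne_zero.mpr
      (mul_ne_zero (mul_ne_zero (pow_ne_zero 2 h12) (pow_ne_zero 2 h02)) (pow_ne_zero 2 h01)))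
  · have hne : -(p ^ 2 * q ^ 2 * r ^ 2) ≠ 0 := neg_ne_zero.mpr
      (mul_ne_zero (mul_ne_zero (pow_ne_zero 2 h12) (pow_ne_zero 2 h02)) (pow_ne_zero 2 h01))
    have key : C (-(p ^ 2 * q ^ 2 * r ^ 2)) * binForm la mu = subst M (nf (bB la mu) (bC la mu)) := by
      have e2 : subst M (X 0 - X 1) = C (-r) * (C (mu 2) * X 0 - C (la 2) * X 1) := by
        simp only [map_sub, subst, aeval_X, Fin.sum_univ_two, M, Matrix.of_apply, Matrix.cons_val',
          Matrix.cons_val_zero, Matrix.cons_val_one, Matrix.cons_val_fin_one]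
        simp only [hp, hq, hr, br, map_sub, map_mul, map_neg]
        ring
      have e3 : subst M (C (bB la mu) * X 0 + C (bC la mu) * X 1) =
          C (p * q * r) * (C (mu 3) * X 0 - C (la 3) * X 1) := by
        simp only [map_add, map_mul, subst, aeval_X, Fin.sum_univ_two, M, Matrix.of_apply,
          Matrix.cons_val', Matrix.cons_val_zero, Matrix.cons_val_one, Matrix.cons_val_fin_one,
          algHom_C, MvPolynomial.algebraMap_eq]
        simp only [bB, bC, ← hp, ← hq]
        simp only [hp, hq, hr, br, map_sub, map_mul, map_neg]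
        ring
      have e0 : subst M (X 0) = C p * (C (mu 0) * X 0 - C (la 0) * X 1) := by
        simp only [subst, aeval_X, Fin.sum_univ_two, M, Matrix.of_apply, Matrix.cons_val',
          Matrix.cons_val_zero, Matrix.cons_val_one, Matrix.cons_val_fin_one]
        simp only [map_mul, map_neg]
        ring
      have e1 : subst M (X 1) = C q * (C (mu 1) * X 0 - C (la 1) * X 1) := by
        simp only [subst, aeval_X, Fin.sum_univ_two, M, Matrix.of_apply, Matrix.cons_val',
          Matrix.cons_val_zero, Matrix.cons_val_one, Matrix.cons_val_fin_one]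
        simp only [map_mul, map_neg]
        ring
      have e4 : subst M (nf (bB la mu) (bC la mu)) = subst M (X 0) * subst M (X 1) *
          subst M (X 0 - X 1) * subst M (C (bB la mu) * X 0 + C (bC la mu) * X 1) := by
        simp only [nf, map_mul]
      rw [e4, e0, e1, e2, e3, binForm, Fin.prod_univ_four]
      simp only [map_mul, map_neg, map_pow]
      ring
    rw [← key, ← mul_assoc, ← C_mul, inv_mul_cancel₀ hne, C_1, one_mul]

theorem binForm_comp (la mu : Fin 4 → k) (σ : Equiv.Perm (Fin 4)) :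
    binForm (la ∘ σ) (mu ∘ σ) = binForm la mu := by
  simp only [binForm, Function.comp]
  exact Equiv.prod_comp σ (fun i => C (mu i) * X 0 - C (la i) * X 1)

/-- distinct roots: all brackets are nonzero -/
theorem br_ne_zero_of_disc (la mu : Fin 4 → k) (hd : disc la mu ≠ 0) {i j : Fin 4} (hij : i ≠ j) :
    br la mu i j ≠ 0 := by
  rw [disc_eq] at hd
  have hd' : bA la mu * bB la mu * bC la mu ≠ 0 := fun h => hd (by rw [h]; ring)
  intro h0
  apply hd'
  have h0' : br la mu j i = 0 := by rw [br_swap, h0, neg_zero]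
  simp only [bA, bB, bC]
  fin_cases i <;> fin_cases j <;> first
    | exact absurd rfl hij
    | (simp only [Fin.zero_eta, Fin.mk_one, Fin.reduceFinMk] at h0 h0'; simp [h0]; done)
    | (simp only [Fin.zero_eta, Fin.mk_one, Fin.reduceFinMk] at h0 h0'; simp [h0']; done)

theorem six_factor (A B A' B' : k) :
    (A' ^ 2 + A' * B' + B' ^ 2) ^ 3 * (A * B * (A + B)) ^ 2 -
      (A ^ 2 + A * B + B ^ 2) ^ 3 * (A' * B' * (A' + B')) ^ 2 =
    (B' * A - B * A') * (B * B' - A * A') * (A * B' + A * A' + B * A') *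
      ((A + B) * B' + A * A') * (B * B' + (A + B) * A') * ((A + B) * B' + B * A') := by
  ring

theorem eqv_of_disc_ne_zero (h3 : (3 : k) ≠ 0) (la mu la' mu' : Fin 4 → k)
    (hd : disc la mu ≠ 0) (hd' : disc la' mu' ≠ 0)
    (h : invI (coef la mu) ^ 3 * invJ (coef la' mu') ^ 2 =
        invI (coef la' mu') ^ 3 * invJ (coef la mu) ^ 2) :
    Eqv (binForm la' mu') (binForm la mu) := by
  have hD := disc_identity la mu
  have hD' := disc_identity la' mu'
  have h27 : (27 : k) ≠ 0 := by
    have : (27 : k) = 3 ^ 3 := by norm_num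
    rw [this]; exact pow_ne_zero 3 h3
  have e1 : invI (coef la' mu') ^ 3 * disc la mu - invI (coef la mu) ^ 3 * disc la' mu' = 0 := by
    have : 27 * (invI (coef la' mu') ^ 3 * disc la mu - invI (coef la mu) ^ 3 * disc la' mu') = 0 := by
      linear_combination (invI (coef la' mu') ^ 3) * hD - (invI (coef la mu) ^ 3) * hD' + h
    exact (mul_eq_zero.mp this).resolve_left h27
  have hC : bC la mu = -(bA la mu + bB la mu) := by linear_combination bA_add_bB_add_bC la mu
  have hC' : bC la' mu' = -(bA la' mu' + bB la' mu') := by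
    linear_combination bA_add_bB_add_bC la' mu'
  have hABC : bA la mu ≠ 0 ∧ bB la mu ≠ 0 ∧ bC la mu ≠ 0 := by
    rw [disc_eq] at hd
    refine ⟨fun h => hd ?_, fun h => hd ?_, fun h => hd ?_⟩ <;> rw [h] <;> ring
  have hABC' : bA la' mu' ≠ 0 ∧ bB la' mu' ≠ 0 ∧ bC la' mu' ≠ 0 := by
    rw [disc_eq] at hd'
    refine ⟨fun h => hd' ?_, fun h => hd' ?_, fun h => hd' ?_⟩ <;> rw [h] <;> ring
  -- main reduction: a permutation with proportional (B, C)
  have main : ∀ σ : Equiv.Perm (Fin 4),
      bB (la' ∘ σ) (mu' ∘ σ) * bC la mu = bC (la' ∘ σ) (mu' ∘ σ) * bB la mu →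
      Eqv (binForm la' mu') (binForm la mu) := by
    intro σ hσ
    have n1 : Eqv (binForm la mu) (nf (bB la mu) (bC la mu)) :=
      binForm_eqv_nf la mu (br_ne_zero_of_disc la mu hd (by decide))
        (br_ne_zero_of_disc la mu hd (by decide)) (br_ne_zero_of_disc la mu hd (by decide))
    have hbr : ∀ i j : Fin 4, i ≠ j → br (la' ∘ σ) (mu' ∘ σ) i j ≠ 0 := by
      intro i j hij
      exact br_ne_zero_of_disc la' mu' hd' (fun h => hij (σ.injective h))
    have n2 : Eqv (binForm la' mu') (nf (bB (la' ∘ σ) (mu' ∘ σ)) (bC (la' ∘ σ) (mu' ∘ σ))) := by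
      rw [← binForm_comp la' mu' σ]
      exact binForm_eqv_nf _ _ (hbr _ _ (by decide)) (hbr _ _ (by decide)) (hbr _ _ (by decide))
    have hB0 : bB (la' ∘ σ) (mu' ∘ σ) ≠ 0 := mul_ne_zero (hbr _ _ (by decide)) (hbr _ _ (by decide))
    have n3 : Eqv (nf (bB (la' ∘ σ) (mu' ∘ σ)) (bC (la' ∘ σ) (mu' ∘ σ))) (nf (bB la mu) (bC la mu)) := by
      have ht : bB (la' ∘ σ) (mu' ∘ σ) / bB la mu ≠ 0 := div_ne_zero hB0 hABC.2.1
      have := nf_smul (bB (la' ∘ σ) (mu' ∘ σ) / bB la mu) (bB la mu) (bC la mu) ht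
      have eB : bB (la' ∘ σ) (mu' ∘ σ) / bB la mu * bB la mu = bB (la' ∘ σ) (mu' ∘ σ) :=
        div_mul_cancel₀ _ hABC.2.1
      have eC : bB (la' ∘ σ) (mu' ∘ σ) / bB la mu * bC la mu = bC (la' ∘ σ) (mu' ∘ σ) := by
        rw [div_mul_eq_mul_div, div_eq_iff hABC.2.1, hσ]
      rwa [eB, eC] at this
    exact (n2.trans n3).trans n1.symm
  rw [disc_eq, disc_eq, invI_eq, invI_eq, hC, hC'] at e1
  have e2 := six_factor (bA la mu) (bB la mu) (bA la' mu') (bB la' mu')
  have e3 : (bB la' mu' * bA la mu - bB la mu * bA la' mu') *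
      (bB la mu * bB la' mu' - bA la mu * bA la' mu') *
      (bA la mu * bB la' mu' + bA la mu * bA la' mu' + bB la mu * bA la' mu') *
      ((bA la mu + bB la mu) * bB la' mu' + bA la mu * bA la' mu') *
      (bB la mu * bB la' mu' + (bA la mu + bB la mu) * bA la' mu') *
      ((bA la mu + bB la mu) * bB la' mu' + bB la mu * bA la' mu') = 0 := by
    rw [← e2]
    linear_combination e1
  have hBσ : ∀ σ : Equiv.Perm (Fin 4), bB (la' ∘ σ) (mu' ∘ σ) =
      br la' mu' (σ 0) (σ 2) * br la' mu' (σ 3) (σ 1) := fun _ => rfl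
  have hCσ : ∀ σ : Equiv.Perm (Fin 4), bC (la' ∘ σ) (mu' ∘ σ) =
      br la' mu' (σ 0) (σ 3) * br la' mu' (σ 1) (σ 2) := fun _ => rfl
  have dA : bA la' mu' = br la' mu' 0 1 * br la' mu' 2 3 := rfl
  have dB : bB la' mu' = br la' mu' 0 2 * br la' mu' 3 1 := rfl
  have dC : bC la' mu' = br la' mu' 0 3 * br la' mu' 1 2 := rfl
  rcases mul_eq_zero.mp e3 with e3 | e3
  · rcases mul_eq_zero.mp e3 with e3 | e3
    · rcases mul_eq_zero.mp e3 with e3 | e3
      · rcases mul_eq_zero.mp e3 with e3 | e3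
        · rcases mul_eq_zero.mp e3 with e3 | e3
          · -- B' A = B A'
            apply main 1
            change bB la' mu' * bC la mu = bC la' mu' * bB la mu
            rw [hC, hC']
            linear_combination -e3
          · -- B B' = A A'
            apply main (Equiv.swap 0 3)
            have e0 : (Equiv.swap (0 : Fin 4) 3) 0 = 3 := by decide
            have e1 : (Equiv.swap (0 : Fin 4) 3) 1 = 1 := by decide
            have e2 : (Equiv.swap (0 : Fin 4) 3) 2 = 2 := by decide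
            have e33 : (Equiv.swap (0 : Fin 4) 3) 3 = 0 := by decide
            rw [hBσ, hCσ, e0, e1, e2, e33, hC, br_swap la' mu' 3 2, br_swap la' mu' 3 0]
            rw [dC] at hC'
            rw [dA, dB] at e3 hC'
            linear_combination -e3 + bB la mu * hC'
        · apply main (Equiv.swap 0 1)
          have e0 : (Equiv.swap (0 : Fin 4) 1) 0 = 1 := by decide
          have e1 : (Equiv.swap (0 : Fin 4) 1) 1 = 0 := by decide
          have e2 : (Equiv.swap (0 : Fin 4) 1) 2 = 2 := by decide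
          have e33 : (Equiv.swap (0 : Fin 4) 1) 3 = 3 := by decide
          rw [hBσ, hCσ, e0, e1, e2, e33, hC, br_swap la' mu' 3 0, br_swap la' mu' 1 3]
          rw [dC] at hC'
          rw [dA, dB] at e3 hC'
          linear_combination -e3 + (bA la mu + bB la mu) * hC'
      · apply main (Equiv.swap 1 2 * Equiv.swap 2 3)
        have e0 : (Equiv.swap (1 : Fin 4) 2 * Equiv.swap 2 3 : Equiv.Perm (Fin 4)) 0 = 0 := by decide
        have e1 : (Equiv.swap (1 : Fin 4) 2 * Equiv.swap 2 3 : Equiv.Perm (Fin 4)) 1 = 2 := by decide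
        have e2 : (Equiv.swap (1 : Fin 4) 2 * Equiv.swap 2 3 : Equiv.Perm (Fin 4)) 2 = 3 := by decide
        have e33 : (Equiv.swap (1 : Fin 4) 2 * Equiv.swap 2 3 : Equiv.Perm (Fin 4)) 3 = 1 := by decide
        rw [hBσ, hCσ, e0, e1, e2, e33, hC]
        rw [dC] at hC'
        rw [dA, dB] at e3 hC'
        linear_combination e3 - (bA la mu + bB la mu) * hC'
    · apply main (Equiv.swap 2 3 * Equiv.swap 1 2)
      have e0 : (Equiv.swap (2 : Fin 4) 3 * Equiv.swap 1 2 : Equiv.Perm (Fin 4)) 0 = 0 := by decide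
      have e1 : (Equiv.swap (2 : Fin 4) 3 * Equiv.swap 1 2 : Equiv.Perm (Fin 4)) 1 = 3 := by decide
      have e2 : (Equiv.swap (2 : Fin 4) 3 * Equiv.swap 1 2 : Equiv.Perm (Fin 4)) 2 = 1 := by decide
      have e33 : (Equiv.swap (2 : Fin 4) 3 * Equiv.swap 1 2 : Equiv.Perm (Fin 4)) 3 = 2 := by decide
      rw [hBσ, hCσ, e0, e1, e2, e33, hC]
      rw [dA, dB] at e3
      linear_combination -e3
  · apply main (Equiv.swap 0 2)
    have e0 : (Equiv.swap (0 : Fin 4) 2) 0 = 2 := by decide
    have e1 : (Equiv.swap (0 : Fin 4) 2) 1 = 1 := by decide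
    have e2 : (Equiv.swap (0 : Fin 4) 2) 2 = 0 := by decide
    have e33 : (Equiv.swap (0 : Fin 4) 2) 3 = 3 := by decide
    rw [hBσ, hCσ, e0, e1, e2, e33, hC, br_swap la' mu' 2 0, br_swap la' mu' 1 0]
    rw [dA, dB] at e3
    linear_combination e3

end Field

end K702.Quartic
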