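import Groth.Agent.AGF.K702.Disc
import Groth.Agent.InvQ.K702.Points
import Groth.Agent.InvQ.K702.HMCore
import Groth.Agent.GIT.K687.GLnDom

/-!
# The special linear group is reductive, hence geometrically reductive
-/

set_option autoImplicit false
set_option linter.unusedSectionVars false
set_option linter.style.haveILetI false
universe u

open CategoryTheory AlgebraicGeometry CoordGrp
open Groth.Agent.Books.AffBridge Groth.Agent.Sga3B.RG

namespace K702.SLRed

variable {k : Type u} [Field k] {n : ℕ}

/-- a matrix of determinant one over the general linear group which restricts to the universal matrix of `SL_n` -/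
theorem exists_retract : ∃ M : Matrix (Fin n) (Fin n) (GLn n k), M.det = 1 ∧
    ∀ i j, SLn.mk n k (M i j) = SLn.X i j := by
  classical
  rcases n with _ | n
  · exact ⟨1, Matrix.det_one, fun i => i.elim0⟩
  · refine ⟨Matrix.diagonal (Function.update 1 0 (GLn.Dinv : GLn (n + 1) k)) * GLn.genMat (n + 1) k, ?_, ?_⟩
    · rw [Matrix.det_mul, Matrix.det_diagonal, Fin.prod_univ_succ]
      simp only [Function.update_self, ne_eq, Fin.succ_ne_zero, not_false_eq_true, Function.update_of_ne,
        Pi.one_apply, Finset.prod_const_one, mul_one]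
      rw [← GLn.det_eq]
      exact GLn.Dinv_mul_det
    · intro i j
      rw [Matrix.diagonal_mul, map_mul]
      by_cases hi : i = 0
      · subst hi
        rw [Function.update_self, K702.SL.mk_Dinv, one_mul]
        rfl
      · rw [Function.update_of_ne hi, Pi.one_apply, map_one, one_mul]
        rfl

instance isDomain_SLn : IsDomain (SLn n k) := by
  obtain ⟨M, hM, hM'⟩ := exists_retract (k := k) (n := n)
  let φ : SLn n k →ₐ[k] GLn n k := SLn.pt n k M hM
  have h1 : (SLn.mk n k).comp φ = AlgHom.id k _ := by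
    apply K702.SL.ext
    intro i j
    rw [AlgHom.comp_apply]
    have : φ (SLn.X i j) = M i j := congrFun (congrFun (K702.SL.mat_pt M hM) i) j
    rw [this, hM']
    rfl
  have hinj : Function.Injective φ := by
    intro x y hxy
    have h2 := congrArg (SLn.mk n k) hxy
    have h3 : ∀ z, SLn.mk n k (φ z) = z := fun z => DFunLike.congr_fun h1 z
    rwa [h3, h3] at h2
  exact hinj.isDomain φ.toRingHom

section pts

variable [IsAlgClosed k]

/-- the matrix of a point -/
noncomputable def mt (g : Pt k (SLn n k)) : Matrix (Fin n) (Fin n) k := K702.SL.mat g.ofConv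

lemma det_mt (g : Pt k (SLn n k)) : (mt g).det = 1 := K702.SL.det_mat _

lemma exists_mt {M : Matrix (Fin n) (Fin n) k} (hM : M.det = 1) : ∃ g : Pt k (SLn n k), mt g = M :=
  ⟨WithConv.toConv (SLn.pt n k M hM), K702.SL.mat_pt M hM⟩

lemma mt_apply (g : Pt k (SLn n k)) (i j : Fin n) : mt g i j = g (SLn.X i j) := rfl

lemma mt_mul (g g' : Pt k (SLn n k)) : mt (g * g') = mt g * mt g' := by
  ext i j
  rw [mt_apply, Pt.mul_apply, K702.SL.comul_X, Matrix.mul_apply]
  simp [mt_apply]

lemma mt_one : mt (1 : Pt k (SLn n k)) = 1 := by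
  have h1 := mt_mul (1 : Pt k (SLn n k)) 1
  rw [one_mul] at h1
  have h2 : IsUnit (mt (1 : Pt k (SLn n k))) := by
    rw [Matrix.isUnit_iff_isUnit_det, det_mt]
    exact isUnit_one
  exact (h2.mul_eq_left.1 h1.symm)

lemma mt_injective : Function.Injective (mt : Pt k (SLn n k) → Matrix (Fin n) (Fin n) k) := fun _ _ hgh =>
  WithConv.ofConv_injective (K702.SL.mat_injective hgh)

/-- the standard representation -/
noncomputable def std : Representation k (Pt k (SLn n k)) (Fin n → k) where
  toFun g := Matrix.mulVecLin (mt g)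
  map_one' := by rw [mt_one, Matrix.mulVecLin_one]; rfl
  map_mul' g h := by rw [mt_mul, Matrix.mulVecLin_mul]; rfl

lemma std_apply (g : Pt k (SLn n k)) (v : Fin n → k) : std g v = (mt g).mulVec v := rfl

lemma isAlg_std : IsAlg (std (k := k) (n := n)) := by
  intro f v
  refine ⟨∑ i, ∑ j, (f (Pi.single i 1) * v j) • SLn.X i j, fun g => ?_⟩
  have h1 : std g v = ∑ i, (mt g).mulVec v i • (Pi.single i 1 : Fin n → k) := by
    rw [std_apply]
    ext i
    simp [Finset.sum_apply, Pi.single_apply]
  rw [h1, map_sum]
  have h2 : g (∑ i, ∑ j, (f (Pi.single i 1) * v j) • SLn.X i j) =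
      ∑ i, ∑ j, (f (Pi.single i 1) * v j) • g (SLn.X i j) := by
    change g.ofConv _ = _
    rw [map_sum]
    refine Finset.sum_congr rfl fun i _ => ?_
    rw [map_sum]
    refine Finset.sum_congr rfl fun j _ => ?_
    rw [map_smul]
  rw [h2]
  refine Finset.sum_congr rfl fun i _ => ?_
  rw [map_smul, Matrix.mulVec, dotProduct, Finset.sum_smul]
  refine Finset.sum_congr rfl fun j _ => ?_
  rw [mt_apply, smul_eq_mul, smul_eq_mul]
  ring

/-- a normal subgroup of unipotent matrices of determinant one is trivial -/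
theorem isRedPt_SLn : IsRedPt k (SLn n k) := by
  classical
  intro N hN _ _ hu
  rw [Subgroup.eq_bot_iff_forall]
  intro g hg
  rcases Nat.eq_zero_or_pos n with h0 | hpos
  · subst h0
    exact mt_injective (Subsingleton.elim _ _)
  haveI : Nonempty (Fin n) := ⟨⟨0, hpos⟩⟩
  -- the fixed vectors of `N`
  let F : Submodule k (Fin n → k) :=
    { carrier := {v | ∀ h ∈ N, std h v = v}
      add_mem' := fun {v w} hv hw h hh => by rw [map_add, hv h hh, hw h hh]
      zero_mem' := fun h _ => map_zero _
      smul_mem' := fun c v hv h hh => by rw [map_smul, hv h hh] }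
  have hF : ∀ (x : Pt k (SLn n k)), ∀ v ∈ F, std x v ∈ F := by
    intro x v hv h hh
    have h1 : x⁻¹ * h * x ∈ N := by
      have := hN.conj_mem h hh x⁻¹
      rwa [inv_inv] at this
    have h2 := hv _ h1
    have h3 : std x (std (x⁻¹ * h * x) v) = std x v := by rw [h2]
    rw [← Module.End.mul_apply, ← map_mul] at h3
    rw [← Module.End.mul_apply, ← map_mul, ← h3]
    congr 2
    group
  obtain ⟨v, hv0, hv⟩ : ∃ v : Fin n → k, v ≠ 0 ∧ v ∈ F := by
    obtain ⟨v, hv0, hv⟩ := exists_fixed (K := k) (V := Fin n → k) (std.comp N.subtype)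
      (fun h => IsUnip.rep isAlg_std (hu h.1 h.2))
    exact ⟨v, hv0, fun h hh => hv ⟨h, hh⟩⟩
  obtain ⟨j, hj⟩ := Function.ne_iff.1 hv0
  rw [Pi.zero_apply] at hj
  -- elementary matrices
  have hel : ∀ i l : Fin n, i ≠ l → ∀ w ∈ F, w l ≠ 0 → (Pi.single i 1 : Fin n → k) ∈ F := by
    intro i l hil w hw hwl
    obtain ⟨x, hx⟩ := exists_mt (k := k) (M := Matrix.transvection i l (1 : k))
      (Matrix.det_transvection_of_ne i l hil 1)
    have h1 := F.sub_mem (hF x w hw) hw
    rw [std_apply, hx] at h1
    have h2 : (Matrix.transvection i l (1 : k)).mulVec w - w = w l • (Pi.single i 1 : Fin n → k) := by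
      rw [Matrix.transvection, Matrix.add_mulVec, Matrix.one_mulVec, add_sub_cancel_left]
      ext a
      rw [Matrix.single_mulVec]
      simp [Pi.single_apply, Function.update_apply]
    rw [h2] at h1
    have h3 := F.smul_mem (w l)⁻¹ h1
    rwa [smul_smul, inv_mul_cancel₀ hwl, one_smul] at h3
  have hall : ∀ i : Fin n, (Pi.single i 1 : Fin n → k) ∈ F := by
    intro i
    by_cases hij : i = j
    · by_cases hn : ∃ l : Fin n, l ≠ j
      · obtain ⟨l, hl⟩ := hn
        have h1 := hel l j hl v hv hj
        rw [hij]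
        exact hel j l hl.symm _ h1 (by rw [Pi.single_eq_same]; exact one_ne_zero)
      · push Not at hn
        have h1 : v = v j • (Pi.single i 1 : Fin n → k) := by
          ext a
          rw [hn a, hij]
          simp
        have h2 : (Pi.single i 1 : Fin n → k) = (v j)⁻¹ • v := by
          rw [h1, hij]
          ext a
          rw [hn a]
          simp [hj]
        rw [h2]
        exact F.smul_mem _ hv
    · exact hel i j hij v hv hj
  apply mt_injective
  rw [mt_one]
  ext a b
  have h1 := congrFun (hall b g hg) a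
  rw [std_apply, Matrix.mulVec_single_one] at h1
  rw [Matrix.one_apply]
  have h2 : (mt g).col b a = mt g a b := rfl
  rw [h2] at h1
  rw [h1, Pi.single_apply]

instance finiteType_SLn : Algebra.FiniteType k (SLn n k) := K702.HMCore.finiteType_SLn k n

theorem isReductiveOver_SLn : Red.IsReductiveOver k (SpecOver k (SLn n k)) :=
  BrRed2.isReductiveOver_iff.2 ⟨isDomain_SLn, isRedPt_SLn⟩

theorem isReductiveGrp_SLn : VecGrp.IsReductiveGrp k (SpecOver k (SLn n k)) :=
  ⟨inferInstance, isReductiveOver_SLn.2.1, SpecOver k (SLn n k), inferInstance, 𝟙 _, inferInstance,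
    by rw [Over.id_left]; infer_instance, isReductiveOver_SLn⟩

/-- **The special linear group is geometrically reductive.** -/
theorem geomRed_SLn : K497.Rat.GeomRed k (SLn n k) :=
  haveI : IsMonHom (Iso.refl (SpecOver k (SLn n k))).hom := inferInstanceAs (IsMonHom (𝟙 _))
  K702.Hab.geomRed_of_isReductiveGrp (Iso.refl (SpecOver k (SLn n k))) isReductiveGrp_SLn

end pts

end K702.SLRed
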