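import Groth.Prelude.Def_GLin
import Groth.Prelude.Def_HopfRep
import Mathlib.RingTheory.Bialgebra.MonoidAlgebra
import Mathlib.RingTheory.Coalgebra.MonoidAlgebra

/-!
Comodules over the group algebra `k[Λ]`: weight components.
-/

set_option autoImplicit false
universe u v w

open TensorProduct
open scoped Classical

namespace K702.TorusComod

variable {k : Type u} [Field k] {Λ : Type v} [AddCommGroup Λ]
variable {V : Type w} [AddCommGroup V] [Module k V] [HopfRep.Comod k (AddMonoidAlgebra k Λ) V]

/-- coefficient functional -/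
noncomputable def cf (k : Type u) [Field k] {Λ : Type v} (w : Λ) : AddMonoidAlgebra k Λ →ₗ[k] k where
  toFun a := a.coeff w
  map_add' _ _ := rfl
  map_smul' _ _ := rfl

theorem cf_single (w w' : Λ) (c : k) : cf k w (AddMonoidAlgebra.single w' c) = if w' = w then c else 0 := by
  change (Finsupp.single w' c) w = _
  rw [Finsupp.single_apply]

/-- the weight-`w` component -/
noncomputable def comp (k : Type u) [Field k] {Λ : Type v} [AddCommGroup Λ] (V : Type w)
    [AddCommGroup V] [Module k V] [HopfRep.Comod k (AddMonoidAlgebra k Λ) V] (w : Λ) : V →ₗ[k] V :=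
  (TensorProduct.rid k V).toLinearMap ∘ₗ LinearMap.lTensor V (cf k w) ∘ₗ
    HopfRep.Comod.coact (k := k) (A := AddMonoidAlgebra k Λ)

theorem exists_finset (t : V ⊗[k] AddMonoidAlgebra k Λ) :
    ∃ S : Finset Λ, ∀ S' : Finset Λ, S ⊆ S' → t = ∑ w ∈ S', (TensorProduct.rid k V)
      (LinearMap.lTensor V (cf k w) t) ⊗ₜ[k] AddMonoidAlgebra.single w (1 : k) := by
  classical
  induction t using TensorProduct.induction_on with
  | zero => exact ⟨∅, fun S' _ => by simp⟩
  | tmul x a =>
    refine ⟨a.coeff.support, fun S' hS' => ?_⟩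
    have ha : a = ∑ w ∈ S', AddMonoidAlgebra.single w (a.coeff w) := by
      apply AddMonoidAlgebra.coeff_injective
      have h1 : a.coeff = ∑ w ∈ S', Finsupp.single w (a.coeff w) := by
        conv_lhs => rw [← Finsupp.sum_single a.coeff]
        rw [Finsupp.sum]
        exact Finset.sum_subset hS' (fun w _ hw => by rw [Finsupp.notMem_support_iff.mp hw, Finsupp.single_zero])
      rw [AddMonoidAlgebra.coeff_sum]
      exact h1
    conv_lhs => rw [ha, TensorProduct.tmul_sum]
    refine Finset.sum_congr rfl fun w _ => ?_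
    simp only [LinearMap.lTensor_tmul, TensorProduct.rid_tmul]
    rw [TensorProduct.smul_tmul]
    congr 1
    have : cf k w a = a.coeff w := rfl
    rw [this, AddMonoidAlgebra.smul_single, smul_eq_mul, mul_one]
  | add x y hx hy =>
    obtain ⟨S₁, h₁⟩ := hx
    obtain ⟨S₂, h₂⟩ := hy
    refine ⟨S₁ ∪ S₂, fun S' hS' => ?_⟩
    conv_lhs => rw [h₁ S' (Finset.union_subset_left hS'), h₂ S' (Finset.union_subset_right hS')]
    rw [← Finset.sum_add_distrib]
    refine Finset.sum_congr rfl fun w _ => ?_
    rw [map_add, map_add, TensorProduct.add_tmul]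

theorem coact_eq_sum (v : V) : ∃ S : Finset Λ, ∀ S' : Finset Λ, S ⊆ S' →
    HopfRep.Comod.coact (k := k) (A := AddMonoidAlgebra k Λ) v =
      ∑ w ∈ S', comp k V w v ⊗ₜ[k] AddMonoidAlgebra.single w (1 : k) :=
  exists_finset _

theorem sum_comp (v : V) : ∃ S : Finset Λ, ∀ S' : Finset Λ, S ⊆ S' →
    v = ∑ w ∈ S', comp k V (Λ := Λ) w v := by
  obtain ⟨S, hS⟩ := coact_eq_sum (k := k) (Λ := Λ) v
  refine ⟨S, fun S' hS' => ?_⟩
  have hc := congrArg (fun F => F v) (HopfRep.Comod.counit_comp (k := k) (A := AddMonoidAlgebra k Λ) (V := V))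
  simp only [LinearMap.comp_apply] at hc
  rw [hS S' hS', map_sum] at hc
  have h1 := congrArg (TensorProduct.rid k V) hc
  rw [map_sum] at h1
  simp only [LinearMap.lTensor_tmul, AddMonoidAlgebra.counit_single, TensorProduct.rid_tmul,
    LinearMap.flip_apply, TensorProduct.mk_apply, one_smul] at h1
  rw [CommSemiring.counit_apply] at h1
  simp only [one_smul] at h1
  exact h1.symm

theorem coact_comp (w : Λ) (v : V) :
    HopfRep.Comod.coact (k := k) (A := AddMonoidAlgebra k Λ) (comp k V w v) =
      comp k V w v ⊗ₜ[k] AddMonoidAlgebra.single w (1 : k) := by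
  classical
  obtain ⟨S, hS⟩ := coact_eq_sum (k := k) (Λ := Λ) v
  have hc := congrArg (fun F => F v) (HopfRep.Comod.coassoc (k := k) (A := AddMonoidAlgebra k Λ) (V := V))
  simp only [LinearMap.comp_apply, LinearEquiv.coe_coe] at hc
  rw [hS (insert w S) (Finset.subset_insert _ _)] at hc
  simp only [map_sum, LinearMap.rTensor_tmul, LinearMap.lTensor_tmul, AddMonoidAlgebra.comul_single,
    CommSemiring.comul_apply, TensorProduct.map_tmul] at hc
  -- apply `id ⊗ id ⊗ cf w`
  have h1 := congrArg (TensorProduct.map (LinearMap.id : V →ₗ[k] V)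
    ((TensorProduct.rid k (AddMonoidAlgebra k Λ)).toLinearMap ∘ₗ
      LinearMap.lTensor (AddMonoidAlgebra k Λ) (cf k w))) hc
  have h2 : ∀ (t : V ⊗[k] AddMonoidAlgebra k Λ) (w' : Λ),
      TensorProduct.map (LinearMap.id : V →ₗ[k] V)
        ((TensorProduct.rid k (AddMonoidAlgebra k Λ)).toLinearMap ∘ₗ
          LinearMap.lTensor (AddMonoidAlgebra k Λ) (cf k w))
        ((TensorProduct.assoc k V (AddMonoidAlgebra k Λ) (AddMonoidAlgebra k Λ))
          (t ⊗ₜ[k] AddMonoidAlgebra.single w' (1 : k))) = if w' = w then t else 0 := by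
    intro t w'
    induction t using TensorProduct.induction_on with
    | zero => simp
    | tmul x a =>
      simp only [TensorProduct.assoc_tmul, TensorProduct.map_tmul, LinearMap.id_apply, LinearMap.comp_apply,
        LinearMap.lTensor_tmul, LinearEquiv.coe_coe, TensorProduct.rid_tmul, cf_single]
      split_ifs <;> simp
    | add x y hx hy =>
      rw [TensorProduct.add_tmul, map_add, map_add, hx, hy]
      split_ifs <;> simp
  rw [map_sum, map_sum] at h1
  rw [Finset.sum_congr rfl fun w' _ => h2 _ w'] at h1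
  rw [Finset.sum_ite_eq' (insert w S) w, if_pos (Finset.mem_insert_self _ _)] at h1
  rw [h1]
  rw [Finset.sum_eq_single w]
  · simp only [TensorProduct.map_tmul, LinearMap.id_apply, LinearMap.comp_apply, LinearMap.lTensor_tmul,
      LinearEquiv.coe_coe, TensorProduct.rid_tmul, cf_single]
    simp [cf_single]
  · intro w' _ hw'
    simp [cf_single, hw']
  · intro h; exact absurd (Finset.mem_insert_self _ _) h

theorem comp_mem (w : Λ) (v : V) : comp k V w v ∈
    HopfRep.eigenspace k (AddMonoidAlgebra k Λ) V (AddMonoidAlgebra.single w 1) := coact_comp w v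

theorem comp_of_mem {w : Λ} {v : V} (hv : v ∈
    HopfRep.eigenspace k (AddMonoidAlgebra k Λ) V (AddMonoidAlgebra.single w 1)) (w' : Λ) :
    comp k V w' v = if w = w' then v else 0 := by
  have : HopfRep.Comod.coact (k := k) (A := AddMonoidAlgebra k Λ) v =
    v ⊗ₜ[k] AddMonoidAlgebra.single w (1 : k) := hv
  simp only [comp, LinearMap.comp_apply, this, LinearMap.lTensor_tmul, LinearEquiv.coe_coe,
    TensorProduct.rid_tmul, cf_single]
  split_ifs <;> simp

end K702.TorusComod
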