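import Groth.Agent.InvQ.K702.TorusComod
import Mathlib.RingTheory.Spectrum.Prime.Topology
import Mathlib.RingTheory.Ideal.Quotient.Operations

/-!
Torus actions with positive grading monoid: closed orbits and fixed points.
-/

set_option autoImplicit false
universe u v w

open TensorProduct
open scoped Classical

namespace K702.TorusPos

open K702.TorusComod

variable {k : Type u} [Field k] {Λ : Type v} [AddCommGroup Λ]
variable {R : Type w} [CommRing R] [Algebra k R] [HopfRep.Comod k (AddMonoidAlgebra k Λ) R]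
  [GLin.IsCoactAlg k (AddMonoidAlgebra k Λ) R]

local notation "E" => fun w : Λ => HopfRep.eigenspace k (AddMonoidAlgebra k Λ) R (AddMonoidAlgebra.single w (1 : k))

theorem mul_mem_eig {w w' : Λ} {f g : R}
    (hf : f ∈ HopfRep.eigenspace k (AddMonoidAlgebra k Λ) R (AddMonoidAlgebra.single w (1 : k)))
    (hg : g ∈ HopfRep.eigenspace k (AddMonoidAlgebra k Λ) R (AddMonoidAlgebra.single w' (1 : k))) :
    f * g ∈ HopfRep.eigenspace k (AddMonoidAlgebra k Λ) R (AddMonoidAlgebra.single (w + w') (1 : k)) := by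
  have hf' : HopfRep.Comod.coact (k := k) (A := AddMonoidAlgebra k Λ) f =
    f ⊗ₜ[k] AddMonoidAlgebra.single w (1 : k) := hf
  have hg' : HopfRep.Comod.coact (k := k) (A := AddMonoidAlgebra k Λ) g =
    g ⊗ₜ[k] AddMonoidAlgebra.single w' (1 : k) := hg
  change HopfRep.Comod.coact (k := k) (A := AddMonoidAlgebra k Λ) (f * g) = _
  rw [GLin.IsCoactAlg.coact_mul, hf', hg', Algebra.TensorProduct.tmul_mul_tmul,
    AddMonoidAlgebra.single_mul_single, one_mul]

theorem comp_mul (w : Λ) (a g : R) {w' : Λ}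
    (hg : g ∈ HopfRep.eigenspace k (AddMonoidAlgebra k Λ) R (AddMonoidAlgebra.single w' (1 : k))) :
    comp k R w (a * g) = comp k R (w - w') a * g := by
  obtain ⟨S, hS⟩ := sum_comp (k := k) (Λ := Λ) a
  have h1 := hS (insert (w - w') S) (Finset.subset_insert _ _)
  conv_lhs => rw [h1, Finset.sum_mul, map_sum]
  rw [Finset.sum_eq_single (w - w')]
  · rw [comp_of_mem (mul_mem_eig (comp_mem (w - w') a) hg), sub_add_cancel, if_pos rfl]
  · intro v _ hv
    rw [comp_of_mem (mul_mem_eig (comp_mem v a) hg), if_neg]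
    intro h
    exact hv (by rw [← h, add_sub_cancel_right])
  · intro h
    exact absurd (Finset.mem_insert_self _ _) h

theorem mul_eq_zero_of_pos
    (hpos : ∀ w : Λ, HopfRep.eigenspace k (AddMonoidAlgebra k Λ) R (AddMonoidAlgebra.single w 1) ≠ ⊥ →
      HopfRep.eigenspace k (AddMonoidAlgebra k Λ) R (AddMonoidAlgebra.single (-w) 1) ≠ ⊥ → w = 0)
    {w : Λ} (hw : w ≠ 0) {f g : R}
    (hf : f ∈ HopfRep.eigenspace k (AddMonoidAlgebra k Λ) R (AddMonoidAlgebra.single (-w) (1 : k)))
    (hg : g ∈ HopfRep.eigenspace k (AddMonoidAlgebra k Λ) R (AddMonoidAlgebra.single w (1 : k))) :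
    f * g = 0 := by
  by_cases hf0 : f = 0
  · rw [hf0, zero_mul]
  by_cases hg0 : g = 0
  · rw [hg0, mul_zero]
  exact absurd (hpos w (fun h => hg0 ((Submodule.mem_bot k).mp (h ▸ hg)))
    (fun h => hf0 ((Submodule.mem_bot k).mp (h ▸ hf)))) hw

theorem bijective
    (hpos : ∀ w : Λ, HopfRep.eigenspace k (AddMonoidAlgebra k Λ) R (AddMonoidAlgebra.single w 1) ≠ ⊥ →
      HopfRep.eigenspace k (AddMonoidAlgebra k Λ) R (AddMonoidAlgebra.single (-w) 1) ≠ ⊥ → w = 0) :
    Function.Bijective
      ((Ideal.Quotient.mkₐ k (Ideal.span {f : R | ∃ w : Λ, w ≠ 0 ∧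
          f ∈ HopfRep.eigenspace k (AddMonoidAlgebra k Λ) R (AddMonoidAlgebra.single w 1)})).comp
        (GLin.invariants k (AddMonoidAlgebra k Λ) R).val) := by
  set I : Ideal R := Ideal.span {f : R | ∃ w : Λ, w ≠ 0 ∧
          f ∈ HopfRep.eigenspace k (AddMonoidAlgebra k Λ) R (AddMonoidAlgebra.single w 1)} with hI
  have h0 : ∀ x ∈ I, ∀ a : R, comp k R (0 : Λ) (a * x) = 0 := by
    intro x hx
    refine Submodule.span_induction (p := fun x _ => ∀ a : R, comp k R (0 : Λ) (a * x) = 0) ?_ ?_ ?_ ?_ hx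
    · rintro g ⟨w, hw, hg⟩ a
      rw [comp_mul 0 a g hg, zero_sub]
      exact mul_eq_zero_of_pos hpos hw (comp_mem (-w) a) hg
    · intro a; simp
    · intro x y _ _ hx hy a
      rw [mul_add, map_add, hx, hy, add_zero]
    · intro b x _ hx a
      rw [smul_eq_mul, ← mul_assoc]
      exact hx _
  constructor
  · rw [injective_iff_map_eq_zero]
    intro a ha
    have ha' : (a : R) ∈ I := Ideal.Quotient.eq_zero_iff_mem.mp ha
    have h1 := h0 a ha' 1
    rw [one_mul] at h1
    have h2 : (a : R) ∈ HopfRep.eigenspace k (AddMonoidAlgebra k Λ) R (AddMonoidAlgebra.single 0 1) := a.2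
    rw [comp_of_mem h2, if_pos rfl] at h1
    exact Subtype.ext h1
  · intro y
    obtain ⟨r, rfl⟩ := Ideal.Quotient.mk_surjective y
    refine ⟨⟨comp k R (0 : Λ) r, comp_mem (0 : Λ) r⟩, ?_⟩
    change Ideal.Quotient.mk I (comp k R (0 : Λ) r) = Ideal.Quotient.mk I r
    rw [Ideal.Quotient.eq]
    obtain ⟨S, hS⟩ := sum_comp (k := k) (Λ := Λ) r
    have h1 := hS (insert 0 S) (Finset.subset_insert _ _)
    rw [← Finset.add_sum_erase _ _ (Finset.mem_insert_self 0 S)] at h1
    have h2 : comp k R (0 : Λ) r - r = - ∑ x ∈ (insert 0 S).erase 0, comp k R x r := by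
      conv_lhs => rw [h1]
      rw [← h1]
      linear_combination -h1
    rw [h2]
    refine neg_mem (sum_mem fun w hw => Ideal.subset_span ⟨w, (Finset.mem_erase.mp hw).1, comp_mem w r⟩)

theorem orbitHom_eq (x : R →ₐ[k] k) (f : R) {w : Λ}
    (hf : f ∈ HopfRep.eigenspace k (AddMonoidAlgebra k Λ) R (AddMonoidAlgebra.single w (1 : k))) :
    GLin.orbitHom k (AddMonoidAlgebra k Λ) x f = AddMonoidAlgebra.single w (x f) := by
  have hf' : HopfRep.Comod.coact (k := k) (A := AddMonoidAlgebra k Λ) f =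
    f ⊗ₜ[k] AddMonoidAlgebra.single w (1 : k) := hf
  simp only [GLin.orbitHom, AlgHom.comp_apply, GLin.coactAlgHom_apply, hf']
  simp [Algebra.TensorProduct.map_tmul]

theorem cf_orbitHom (x : R →ₐ[k] k) (f : R) (w : Λ) :
    cf k w (GLin.orbitHom k (AddMonoidAlgebra k Λ) x f) = x (comp k R w f) := by
  obtain ⟨S, hS⟩ := sum_comp (k := k) (Λ := Λ) f
  have h1 := hS (insert w S) (Finset.subset_insert _ _)
  conv_lhs => rw [h1, map_sum, map_sum]
  rw [Finset.sum_eq_single w]
  · rw [orbitHom_eq x _ (comp_mem w f), cf_single, if_pos rfl]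
  · intro v _ hv
    rw [orbitHom_eq x _ (comp_mem v f), cf_single, if_neg hv]
  · intro h
    exact absurd (Finset.mem_insert_self _ _) h

theorem isFixedPt_of_forall (x : R →ₐ[k] k)
    (h : ∀ w : Λ, w ≠ 0 → ∀ f : R, x (comp k R w f) = 0) :
    GLin.IsFixedPt k (AddMonoidAlgebra k Λ) x := by
  apply AlgHom.ext
  intro r
  obtain ⟨S, hS⟩ := sum_comp (k := k) (Λ := Λ) r
  have h1 := hS (insert 0 S) (Finset.subset_insert _ _)
  have h2 : x r = x (comp k R (0 : Λ) r) := by
    conv_lhs => rw [h1, map_sum]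
    rw [Finset.sum_eq_single 0]
    · intro v _ hv
      exact h v hv r
    · intro h
      exact absurd (Finset.mem_insert_self _ _) h
  apply AddMonoidAlgebra.coeff_injective
  ext w
  have h3 := cf_orbitHom x r w
  change (GLin.orbitHom k (AddMonoidAlgebra k Λ) x r).coeff w = x (comp k R w r) at h3
  rw [h3, AlgHom.comp_apply, h2, Algebra.ofId_apply, AddMonoidAlgebra.coe_algebraMap]
  change _ = cf k w (AddMonoidAlgebra.single 0 _)
  rw [cf_single]
  split_ifs with h0
  · subst h0; rfl
  · exact h w (Ne.symm h0) r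

theorem closed_iff_fixed
    (hpos : ∀ w : Λ, HopfRep.eigenspace k (AddMonoidAlgebra k Λ) R (AddMonoidAlgebra.single w 1) ≠ ⊥ →
      HopfRep.eigenspace k (AddMonoidAlgebra k Λ) R (AddMonoidAlgebra.single (-w) 1) ≠ ⊥ → w = 0)
    (x : R →ₐ[k] k) :
    GLin.IsClosedOrbit k (AddMonoidAlgebra k Λ) x ↔ GLin.IsFixedPt k (AddMonoidAlgebra k Λ) x := by
  constructor
  · intro hcl
    apply isFixedPt_of_forall
    intro w hw f
    by_contra hne
    set φ := GLin.orbitHom k (AddMonoidAlgebra k Λ) x with hφ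
    set f' := comp k R w f with hf'
    have hf'm : f' ∈ HopfRep.eigenspace k (AddMonoidAlgebra k Λ) R (AddMonoidAlgebra.single w (1 : k)) :=
      comp_mem w f
    have hφf : φ f' = AddMonoidAlgebra.single w (x f') := orbitHom_eq x f' hf'm
    have hunit : φ f' * AddMonoidAlgebra.single (-w) ((x f')⁻¹) = 1 := by
      rw [hφf, AddMonoidAlgebra.single_mul_single, add_neg_cancel, mul_inv_cancel₀ hne]
      rfl
    have hfu : IsUnit (φ f') := IsUnit.of_mul_eq_one _ hunit
    have htop : RingHom.ker φ.toRingHom ⊔ Ideal.span {f'} = ⊤ := by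
      by_contra hnt
      obtain ⟨m, hm, hle⟩ := Ideal.exists_le_maximal _ hnt
      have hmem : (⟨m, hm.isPrime⟩ : PrimeSpectrum R) ∈
          closure (Set.range (PrimeSpectrum.comap φ.toRingHom)) := by
        rw [PrimeSpectrum.closure_range_comap, PrimeSpectrum.mem_zeroLocus]
        exact fun r hr => hle ((le_sup_left : RingHom.ker φ.toRingHom ≤ _) hr)
      rw [hcl.closure_eq] at hmem
      obtain ⟨q, hq⟩ := hmem
      have hfm : f' ∈ m := hle (Ideal.mem_sup_right (Ideal.mem_span_singleton_self f'))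
      have : f' ∈ (PrimeSpectrum.comap φ.toRingHom q).asIdeal := by rw [hq]; exact hfm
      have h2 : φ f' ∈ q.asIdeal := this
      exact q.2.ne_top (Ideal.eq_top_of_isUnit_mem _ h2 hfu)
    have h1 : (1 : R) ∈ RingHom.ker φ.toRingHom ⊔ Ideal.span {f'} := by rw [htop]; trivial
    obtain ⟨a, ha, b, hb, hab⟩ := Submodule.mem_sup.mp h1
    obtain ⟨g, rfl⟩ := Ideal.mem_span_singleton'.mp hb
    have h2 : φ g * φ f' = 1 := by
      have h3 := congrArg φ hab
      have h4 : φ a = 0 := ha
      rw [map_add, h4, zero_add, map_mul, map_one] at h3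
      exact h3
    have h3 : φ g = AddMonoidAlgebra.single (-w) ((x f')⁻¹) := by
      calc φ g = φ g * (φ f' * AddMonoidAlgebra.single (-w) ((x f')⁻¹)) := by rw [hunit, mul_one]
        _ = (φ g * φ f') * AddMonoidAlgebra.single (-w) ((x f')⁻¹) := by ring
        _ = _ := by rw [h2, one_mul]
    have h4 := cf_orbitHom x g (-w)
    rw [← hφ, h3, cf_single, if_pos rfl] at h4
    have h5 : comp k R (-w) g ≠ 0 := by
      intro h0
      rw [h0, map_zero] at h4
      exact hne (inv_eq_zero.mp h4)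
    apply hw
    apply hpos w
    · intro hb
      have : f' = 0 := (Submodule.mem_bot k).mp (hb ▸ hf'm)
      exact hne (by rw [this, map_zero])
    · intro hb
      exact h5 ((Submodule.mem_bot k).mp (hb ▸ comp_mem (-w) g))
  · intro hfix
    have hmax : (RingHom.ker x.toRingHom).IsMaximal :=
      RingHom.ker_isMaximal_of_surjective x.toRingHom (fun c => ⟨algebraMap k R c, x.commutes c⟩)
    have hrange : Set.range (PrimeSpectrum.comap (GLin.orbitHom k (AddMonoidAlgebra k Λ) x).toRingHom) =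
        {⟨RingHom.ker x.toRingHom, hmax.isPrime⟩} := by
      have hfx : GLin.orbitHom k (AddMonoidAlgebra k Λ) x =
        (Algebra.ofId k (AddMonoidAlgebra k Λ)).comp x := hfix
      rw [hfx]
      have hall : ∀ q : PrimeSpectrum (AddMonoidAlgebra k Λ),
          PrimeSpectrum.comap ((Algebra.ofId k (AddMonoidAlgebra k Λ)).comp x).toRingHom q =
            ⟨RingHom.ker x.toRingHom, hmax.isPrime⟩ := by
        intro q
        apply PrimeSpectrum.ext
        have hle : RingHom.ker x.toRingHom ≤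
            (PrimeSpectrum.comap ((Algebra.ofId k (AddMonoidAlgebra k Λ)).comp x).toRingHom q).asIdeal := by
          intro r hr
          change (Algebra.ofId k (AddMonoidAlgebra k Λ)) (x r) ∈ q.asIdeal
          have : x r = 0 := hr
          rw [this, map_zero]
          exact q.asIdeal.zero_mem
        exact (hmax.eq_of_le (PrimeSpectrum.comap _ q).2.ne_top hle).symm
      ext p
      simp only [Set.mem_range, Set.mem_singleton_iff]
      constructor
      · rintro ⟨q, rfl⟩
        exact hall q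
      · rintro rfl
        obtain ⟨q⟩ : Nonempty (PrimeSpectrum (AddMonoidAlgebra k Λ)) := inferInstance
        exact ⟨q, hall q⟩
    unfold GLin.IsClosedOrbit
    rw [hrange]
    exact (PrimeSpectrum.isClosed_singleton_iff_isMaximal _).mpr hmax

end K702.TorusPos
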